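import Cfsg.Agent.R2.T1.Inf.Cnt
import Cfsg.Agent.H952.F4.MaxA

/-!
# S5929, `n = 6`: the index of `A₆` in a maximal subgroup (helper25)

* `exists_aut` : the automorphism induced by an element of `H`;
* `quot_two`, `card_le_720` : if no element of `H` induces an odd permutation, `[H : A₆] ≤ 2`;
* `odd_of_five` : this is the case if no element of order 5 is conjugate to its square in `H`.
-/

set_option autoImplicit false

namespace Cfsg.Agent.R2.T1.N6D

open Cfsg Cfsg.Lie Equiv Equiv.Perm Subgroup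
open Cfsg.Agent.H952.F4 (MaxAlt)
open Cfsg.Agent.H952.F4.MaxA (z5' r4 z5'_sign r4_sign r4_conj z5'_pow z5'_ne inner_of_even)
open Cfsg.Agent.LFourA.AltPsiAut (NE exists_perm inv_mul_mem)
open Cfsg.Agent.R2.T1

universe u v

section abs
variable {G : Type u} [Group G] {H : Subgroup G}

/-- the automorphism induced by an element of `H` -/
theorem exists_aut {n : ℕ} {φ : ↥(alternatingGroup (Fin n)) →* G} (hM : MaxAlt H n φ) {h : G} (hh : h ∈ H) :
    ∃ α : MulAut ↥(alternatingGroup (Fin n)), ∀ a, φ (α a) = h * φ a * h⁻¹ := by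
  have hex : ∀ a, ∃ b, φ b = h * φ a * h⁻¹ := fun a => hM.norm h hh _ ⟨a, rfl⟩
  choose f hf using hex
  have hmul : ∀ a b, f (a * b) = f a * f b := by
    intro a b
    apply hM.inj
    rw [map_mul, hf, hf, hf, map_mul]
    group
  have hinj : Function.Injective f := by
    intro a b hab
    apply hM.inj
    have h1 := hf a
    rw [hab, hf b] at h1
    exact (mul_left_cancel (mul_right_cancel h1)).symm
  have hbij : Function.Bijective f := Finite.injective_iff_bijective.1 hinj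
  exact ⟨MulEquiv.ofBijective (MonoidHom.mk' f hmul) hbij, hf⟩

variable {φ : ↥(alternatingGroup (Fin 6)) →* G}

/-- no element of `H` induces an odd permutation -/
def NoOdd (H : Subgroup G) (φ : ↥(alternatingGroup (Fin 6)) →* G) : Prop :=
  ∀ h ∈ H, ∀ σ : Perm (Fin 6), sign σ = -1 → ¬ ∀ a b : ↥(alternatingGroup (Fin 6)),
    (b : Perm (Fin 6)) = σ * a * σ⁻¹ → h * φ a * h⁻¹ = φ b

theorem mem_range_of (hM : MaxAlt H 6 φ) (hC : ∀ z ∈ H, (∀ a, φ a * z = z * φ a) → z = 1) (hodd : NoOdd H φ) {h : G}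
    (hh : h ∈ H) {α : MulAut ↥(alternatingGroup (Fin 6))} (hα : ∀ a, φ (α a) = h * φ a * h⁻¹) (hN : α ∈ NE) :
    h ∈ φ.range := by
  obtain ⟨σ, hσ⟩ := exists_perm hN
  have hs : sign σ = 1 := by
    rcases Int.units_eq_one_or (sign σ) with h1 | h1
    · exact h1
    · exfalso
      refine hodd h hh σ h1 fun a b hb => ?_
      rw [← hα]
      congr 1
      apply Subtype.ext
      rw [hσ, hb]
  obtain ⟨a, rfl⟩ := inner_of_even hs hσ
  have h1 : (φ a)⁻¹ * h = 1 := by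
    refine hC _ (mul_mem (inv_mem (hM.le ⟨a, rfl⟩)) hh) fun b => ?_
    have h2 := hα b
    rw [MulAut.conj_apply, map_mul, map_mul, map_inv] at h2
    have h3 : φ b = (φ a)⁻¹ * (h * φ b * h⁻¹) * φ a := by rw [← h2]; group
    calc φ b * ((φ a)⁻¹ * h) = ((φ a)⁻¹ * (h * φ b * h⁻¹) * φ a) * ((φ a)⁻¹ * h) := by rw [← h3]
      _ = (φ a)⁻¹ * h * φ b := by group
  exact ⟨a, (eq_of_inv_mul_eq_one h1)⟩

theorem aut_mul {h k : G} {α β : MulAut ↥(alternatingGroup (Fin 6))} (hα : ∀ a, φ (α a) = h * φ a * h⁻¹)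
    (hβ : ∀ a, φ (β a) = k * φ a * k⁻¹) : ∀ a, φ ((α⁻¹ * β) a) = (h⁻¹ * k) * φ a * (h⁻¹ * k)⁻¹ := by
  intro a
  have h1 := hα ((α⁻¹ * β) a)
  have h2 : α ((α⁻¹ * β) a) = β a := by
    rw [MulAut.mul_apply]
    exact α.apply_symm_apply (β a)
  rw [h2, hβ] at h1
  have h3 : φ ((α⁻¹ * β) a) = h⁻¹ * (k * φ a * k⁻¹) * h := by rw [h1]; group
  rw [h3]
  group

/-- **the outer elements form one coset** -/
theorem quot_two' (hM : MaxAlt H 6 φ) (hC : ∀ z ∈ H, (∀ a, φ a * z = z * φ a) → z = 1) (hodd : NoOdd H φ) {h k : G}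
    (hh : h ∈ H) (hk : k ∈ H) (h1 : h ∉ φ.range) (k1 : k ∉ φ.range) : h⁻¹ * k ∈ φ.range := by
  obtain ⟨α, hα⟩ := exists_aut hM hh
  obtain ⟨β, hβ⟩ := exists_aut hM hk
  have hαN : α ∉ NE := fun hN => h1 (mem_range_of hM hC hodd hh hα hN)
  have hβN : β ∉ NE := fun hN => k1 (mem_range_of hM hC hodd hk hβ hN)
  exact mem_range_of hM hC hodd (mul_mem (inv_mem hh) hk) (aut_mul hα hβ) (inv_mul_mem hαN hβN)

theorem card_A6 : Nat.card ↥(alternatingGroup (Fin 6)) = 360 := by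
  rw [nat_card_alternatingGroup, Nat.card_eq_fintype_card, Fintype.card_fin]
  rfl

theorem card_le_720' [Finite G] (hM : MaxAlt H 6 φ) (hC : ∀ z ∈ H, (∀ a, φ a * z = z * φ a) → z = 1)
    (hodd : NoOdd H φ) : Nat.card ↥H ≤ 720 := by
  classical
  have h1 : Nat.card φ.range = 360 := by
    rw [← card_A6]
    exact (Nat.card_congr (MonoidHom.ofInjective hM.inj).toEquiv).symm
  by_cases hex : ∃ h : ↥H, (h : G) ∉ φ.range
  · obtain ⟨h, hh⟩ := hex
    let f : ↥H → φ.range × Bool := fun k => if hk : (k : G) ∈ φ.range then (⟨k, hk⟩, true) else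
      (⟨(h : G)⁻¹ * k, quot_two' hM hC hodd h.2 k.2 hh hk⟩, false)
    have hf : Function.Injective f := by
      intro a b hab
      by_cases ha : (a : G) ∈ φ.range <;> by_cases hb : (b : G) ∈ φ.range <;> simp only [f, ha, hb, dif_pos, dif_neg,
        Prod.mk.injEq, Subtype.mk.injEq, not_false_eq_true, reduceCtorEq, and_false, and_true] at hab
      · exact Subtype.ext hab
      · exact Subtype.ext (mul_left_cancel hab)
    have h2 := Nat.card_le_card_of_injective f hf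
    rw [Nat.card_prod, Nat.card_eq_fintype_card (α := Bool), Fintype.card_bool, h1] at h2
    exact h2
  · push Not at hex
    have h2 : Nat.card ↥H ≤ Nat.card φ.range :=
      Nat.card_le_card_of_injective (fun a : ↥H => (⟨a, hex a⟩ : φ.range)) fun a b hab => by
        have h3 : (⟨a, hex a⟩ : φ.range) = ⟨b, hex b⟩ := hab
        have h4 := Subtype.ext_iff.1 h3
        exact Subtype.ext h4
    omega

/-- no fusion of the elements of order 5 -/
theorem odd_of_five (hM : MaxAlt H 6 φ)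
    (h5 : ∀ h ∈ H, ∀ x : ↥(alternatingGroup (Fin 6)), x ^ 5 = 1 → x ≠ 1 → h * φ x * h⁻¹ ≠ φ (x ^ 2)) : NoOdd H φ := by
  intro h hh σ hσ hcon
  have ht : sign (r4 * σ⁻¹) = 1 := by rw [map_mul, map_inv, hσ, r4_sign]; decide
  set t : ↥(alternatingGroup (Fin 6)) := ⟨r4 * σ⁻¹, mem_alternatingGroup.2 ht⟩ with htd
  set z : ↥(alternatingGroup (Fin 6)) := ⟨z5', mem_alternatingGroup.2 z5'_sign⟩ with hz
  have hb : sign (σ * z5' * σ⁻¹) = 1 := by
    rw [map_mul, map_mul, map_inv, z5'_sign, mul_one, mul_inv_cancel]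
  have h1 := hcon z ⟨σ * z5' * σ⁻¹, mem_alternatingGroup.2 hb⟩ rfl
  refine h5 (φ t * h) (mul_mem (hM.le ⟨t, rfl⟩) hh) z (Subtype.ext z5'_pow) (fun h0 => z5'_ne (congrArg Subtype.val h0)) ?_
  have h2 : t * ⟨σ * z5' * σ⁻¹, mem_alternatingGroup.2 hb⟩ * t⁻¹ = z ^ 2 := by
    apply Subtype.ext
    show r4 * σ⁻¹ * (σ * z5' * σ⁻¹) * (r4 * σ⁻¹)⁻¹ = z5' ^ 2
    rw [← r4_conj]
    group
  rw [← h2, map_mul, map_mul, map_inv, ← h1]
  group

end abs

section main
variable {F : Type u} [Field F] {H : Subgroup ↥(chevE7.group F)}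
  {φ : ↥(alternatingGroup (Fin 6)) →* ↥(chevE7.group F)}

theorem quot_two (hM : MaxAlt H 6 φ) (hodd : NoOdd H φ) {h k : ↥(chevE7.group F)}
    (hh : h ∈ H) (hk : k ∈ H) (h1 : h ∉ φ.range) (k1 : k ∉ φ.range) : h⁻¹ * k ∈ φ.range :=
  quot_two' hM (fun _ _ hz => centralizer_eq hM (by norm_num) hz) hodd hh hk h1 k1

/-- **`|H| ≤ 720`** -/
theorem card_le_720 [Finite F] (hM : MaxAlt H 6 φ) (hodd : NoOdd H φ) : Nat.card ↥H ≤ 720 :=
  card_le_720' hM (fun _ _ hz => centralizer_eq hM (by norm_num) hz) hodd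

end main

end Cfsg.Agent.R2.T1.N6D
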