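import Mathlib

/-!
# S5929: identities in the group algebra of `A₆` over a field of characteristic 2 (helper9)

* `cd g` : the code of an element of `A₆`; `mulc` the product of codes;
* `xs L` : the exclusive or of the numbers `2 ^ n`, `n ∈ L`; `sum_zero` : if `xs L = 0`, then `∑_{n ∈ L} f n = 0` in characteristic 2;
* `act`, `act_eq`, `actv_eq` : identities between elements of the group algebra, acting on a module.
-/

set_option autoImplicit false

namespace Cfsg.Agent.R2.T1.N6D.Ck

open Equiv Equiv.Perm

abbrev A6 := ↥(alternatingGroup (Fin 6))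

/-- the `i`-th digit -/
def dg (n i : ℕ) : ℕ := n / 6 ^ i % 6

/-- the product of codes -/
def mulc (p q : ℕ) : ℕ := dg p (dg q 0) + 6 * dg p (dg q 1) + 36 * dg p (dg q 2) + 216 * dg p (dg q 3) +
  1296 * dg p (dg q 4) + 7776 * dg p (dg q 5)

/-- the code of a permutation -/
def cd (g : A6) : ℕ := (g.1 0 : ℕ) + 6 * (g.1 1 : ℕ) + 36 * (g.1 2 : ℕ) + 216 * (g.1 3 : ℕ) + 1296 * (g.1 4 : ℕ) +
  7776 * (g.1 5 : ℕ)

theorem dg_cd (g : A6) (i : Fin 6) : dg (cd g) i = g.1 i := by
  have h0 := (g.1 0).isLt
  have h1 := (g.1 1).isLt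
  have h2 := (g.1 2).isLt
  have h3 := (g.1 3).isLt
  have h4 := (g.1 4).isLt
  have h5 := (g.1 5).isLt
  unfold dg cd
  fin_cases i <;> simp <;> omega

theorem cd_mul (g h : A6) : cd (g * h) = mulc (cd g) (cd h) := by
  have e : ∀ i : Fin 6, (((g * h).1 i : Fin 6) : ℕ) = dg (cd g) (dg (cd h) i) := by
    intro i
    rw [dg_cd h i, dg_cd g (h.1 i)]
    rfl
  have e0 := e 0
  have e1 := e 1
  have e2 := e 2
  have e3 := e 3
  have e4 := e 4
  have e5 := e 5
  unfold mulc
  rw [cd, e0, e1, e2, e3, e4, e5]
  rfl

theorem cd_inj : Function.Injective cd := by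
  intro g h hgh
  apply Subtype.ext
  refine Equiv.ext fun i => Fin.ext ?_
  rw [← dg_cd g i, ← dg_cd h i, hgh]

theorem cd_one : cd 1 = 44790 := rfl

/-- the element with a given code -/
noncomputable def toG (n : ℕ) : A6 := by
  classical
  exact if h : ∃ g, cd g = n then h.choose else 1

theorem toG_cd (g : A6) : toG (cd g) = g := by
  have h : ∃ g', cd g' = cd g := ⟨g, rfl⟩
  unfold toG
  rw [dif_pos h]
  exact cd_inj h.choose_spec

/-- the exclusive or of `f n` -/
def xf (L : List ℕ) (f : ℕ → ℕ) : ℕ := L.foldr (fun n acc => Nat.xor (f n) acc) 0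

/-- the parity pattern -/
def xs (L : List ℕ) : ℕ := xf L fun n => 2 ^ n

theorem xf_nil (f : ℕ → ℕ) : xf [] f = 0 := rfl

theorem xf_cons (n : ℕ) (L : List ℕ) (f : ℕ → ℕ) : xf (n :: L) f = Nat.xor (f n) (xf L f) := rfl

theorem xf_append (L L' : List ℕ) (f : ℕ → ℕ) : xf (L ++ L') f = Nat.xor (xf L f) (xf L' f) := by
  induction L with
  | nil => exact (Nat.zero_xor _).symm
  | cons n L ih =>
    rw [List.cons_append, xf_cons, xf_cons, ih]
    exact (Nat.xor_assoc _ _ _).symm

theorem xf_map (L : List ℕ) (g f : ℕ → ℕ) : xf (L.map g) f = xf L fun n => f (g n) := by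
  induction L with
  | nil => rfl
  | cons n L ih => rw [List.map_cons, xf_cons, xf_cons, ih]

theorem xf_flatMap (L : List ℕ) (g : ℕ → List ℕ) (f : ℕ → ℕ) : xf (L.flatMap g) f = xf L fun n => xf (g n) f := by
  induction L with
  | nil => rfl
  | cons n L ih => rw [List.flatMap_cons, xf_append, xf_cons, ih]

theorem xs_append (L L' : List ℕ) : xs (L ++ L') = Nat.xor (xs L) (xs L') := xf_append L L' _

theorem testBit_xs (L : List ℕ) (n : ℕ) : (xs L).testBit n = decide (Odd (L.count n)) := by
  induction L with
  | nil => simp [xs, xf]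
  | cons m L ih =>
    have h : xs (m :: L) = (2 ^ m) ^^^ (xs L) := rfl
    rw [h, Nat.testBit_xor, ih, Nat.testBit_two_pow, List.count_cons]
    by_cases hm : m = n
    · subst hm
      have e : (if (m == m) = true then 1 else 0) = 1 := by simp
      rw [e]
      by_cases ho : Odd (L.count m)
      · have h2 : ¬ Odd (L.count m + 1) := by rw [Nat.odd_add_one]; exact not_not.2 ho
        simp [ho, h2]
      · have h2 : Odd (L.count m + 1) := by rw [Nat.odd_add_one]; exact ho
        simp [ho, h2]
    · have : (m == n) = false := by simpa using hm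
      simp [hm]

section
variable {M : Type*} [AddCommGroup M]

theorem sum_zero (hM : ∀ x : M, x + x = 0) {L : List ℕ} (h : xs L = 0) (f : ℕ → M) : (L.map f).sum = 0 := by
  rw [Finset.sum_list_map_count]
  refine Finset.sum_eq_zero fun n _ => ?_
  have h1 := testBit_xs L n
  rw [h, Nat.zero_testBit] at h1
  have h2 : ¬ Odd (L.count n) := by
    intro hc
    rw [decide_eq_true hc] at h1
    exact Bool.false_ne_true h1
  rw [Nat.not_odd_iff_even] at h2
  obtain ⟨k, hk⟩ := h2
  rw [hk, add_nsmul]
  exact hM _

theorem sum_eq (hM : ∀ x : M, x + x = 0) {L L' : List ℕ} (h : xs L = xs L') (f : ℕ → M) :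
    (L.map f).sum = (L'.map f).sum := by
  have h1 : xs (L ++ L') = 0 := by
    rw [xs_append, h]
    exact Nat.xor_self _
  have h2 := sum_zero hM h1 f
  rw [List.map_append, List.sum_append] at h2
  have h3 := hM (L'.map f).sum
  exact add_right_cancel (h2.trans h3.symm)

end

/-- the product of lists -/
def pr (l l' : List A6) : List A6 := l.flatMap fun g => l'.map fun h => g * h

/-- the product of lists of codes -/
def prc (l l' : List ℕ) : List ℕ := l.flatMap fun g => l'.map fun h => mulc g h

theorem map_pr (l l' : List A6) : (pr l l').map cd = prc (l.map cd) (l'.map cd) := by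
  induction l with
  | nil => rfl
  | cons g l ih =>
    have e1 : pr (g :: l) l' = l'.map (fun h => g * h) ++ pr l l' := rfl
    have e2 : prc ((g :: l).map cd) (l'.map cd) =
      (l'.map cd).map (fun h => mulc (cd g) h) ++ prc (l.map cd) (l'.map cd) := rfl
    rw [e1, e2, List.map_append, ih, List.map_map, List.map_map]
    congr 1
    refine List.map_congr_left fun h _ => ?_
    exact cd_mul g h

/-- the canonical code of the coset -/
def canon (Y : List ℕ) (n : ℕ) : ℕ := Y.foldr (fun h acc => Nat.min (mulc n h) acc) n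

theorem canon_eq (Y : List A6) (g : A6) : ∃ h, (h = 1 ∨ h ∈ Y) ∧ canon (Y.map cd) (cd g) = cd (g * h) := by
  induction Y with
  | nil => exact ⟨1, Or.inl rfl, by rw [mul_one]; rfl⟩
  | cons y Y ih =>
    obtain ⟨h, hh, he⟩ := ih
    have e : canon ((y :: Y).map cd) (cd g) = Nat.min (mulc (cd g) (cd y)) (canon (Y.map cd) (cd g)) := rfl
    rw [e, he, ← cd_mul]
    rcases Nat.le_total (cd (g * y)) (cd (g * h)) with hle | hle
    · exact ⟨y, Or.inr List.mem_cons_self, Nat.min_eq_left hle⟩
    · refine ⟨h, ?_, Nat.min_eq_right hle⟩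
      rcases hh with hh | hh
      · exact Or.inl hh
      · exact Or.inr (List.mem_cons_of_mem _ hh)

section
variable {K : Type*} [Field K] {M : Type*} [AddCommGroup M] [Module K M] (ρ : Representation K A6 M)

/-- the action of a list -/
def act (l : List A6) : Module.End K M := (l.map fun g => ρ g).sum

theorem act_nil : act ρ [] = 0 := rfl

theorem act_cons (g : A6) (l : List A6) : act ρ (g :: l) = ρ g + act ρ l := List.sum_cons

theorem act_append (l l' : List A6) : act ρ (l ++ l') = act ρ l + act ρ l' := by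
  unfold act
  rw [List.map_append, List.sum_append]

theorem act_single (g : A6) : act ρ [g] = ρ g := by rw [act_cons, act_nil, add_zero]

theorem act_pr (l l' : List A6) : act ρ (pr l l') = act ρ l * act ρ l' := by
  induction l with
  | nil =>
    show (0 : Module.End K M) = 0 * act ρ l'
    rw [zero_mul]
  | cons g l ih =>
    have e1 : pr (g :: l) l' = l'.map (fun h => g * h) ++ pr l l' := rfl
    rw [e1, act_append, ih, act_cons, add_mul]
    congr 1
    unfold act
    rw [List.map_map, ← List.sum_map_mul_left]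
    congr 1
    refine List.map_congr_left fun h _ => ?_
    exact map_mul ρ g h

theorem act_apply (l : List A6) (v : M) : act ρ l v = (l.map fun g => ρ g v).sum := by
  induction l with
  | nil => rfl
  | cons g l ih => rw [act_cons, LinearMap.add_apply, ih, List.map_cons, List.sum_cons]

/-- identities on vectors fixed by `Y` -/
theorem actv_eq (hM : ∀ x : M, x + x = 0) {Y l l' : List A6} {v : M} (hv : ∀ g ∈ Y, ρ g v = v)
    (h : xs ((l.map cd).map (canon (Y.map cd))) = xs ((l'.map cd).map (canon (Y.map cd)))) :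
    act ρ l v = act ρ l' v := by
  have key : ∀ l : List A6, act ρ l v = (((l.map cd).map (canon (Y.map cd))).map fun n => ρ (toG n) v).sum := by
    intro l
    rw [act_apply, List.map_map, List.map_map]
    congr 1
    refine List.map_congr_left fun g _ => ?_
    obtain ⟨k, hk, he⟩ := canon_eq Y g
    show ρ g v = ρ (toG (canon (Y.map cd) (cd g))) v
    rw [he, toG_cd, map_mul, Module.End.mul_apply]
    rcases hk with hk | hk
    · rw [hk, map_one, Module.End.one_apply]
    · rw [hv k hk]
  rw [key, key]
  exact sum_eq hM h _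

theorem act_eq (hM : ∀ x : M, x + x = 0) {l l' : List A6} (h : xs (l.map cd) = xs (l'.map cd)) :
    act ρ l = act ρ l' := by
  refine LinearMap.ext fun v => ?_
  refine actv_eq ρ hM (Y := []) (fun g hg => absurd hg List.not_mem_nil) ?_
  have e : ∀ l : List ℕ, l.map (canon (List.map cd [])) = l := by
    intro l
    have : canon (List.map cd []) = id := rfl
    rw [this, List.map_id]
  rw [e, e]
  exact h

end

/-- words -/
def wd (g : ℕ → A6) (l : List ℕ) : A6 := (l.map g).prod

/-- codes of words -/
def wc (c : ℕ → ℕ) (l : List ℕ) : ℕ := l.foldr (fun k acc => mulc (c k) acc) 44790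

theorem cd_wd {g : ℕ → A6} {c : ℕ → ℕ} (h : ∀ k, cd (g k) = c k) (l : List ℕ) : cd (wd g l) = wc c l := by
  induction l with
  | nil => exact cd_one
  | cons k l ih =>
    have e1 : wd g (k :: l) = g k * wd g l := List.prod_cons
    have e2 : wc c (k :: l) = mulc (c k) (wc c l) := rfl
    rw [e1, e2, cd_mul, ih, h]

end Cfsg.Agent.R2.T1.N6D.Ck
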