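import Cfsg.Agent.R2.T1.N6D.Ck
import Cfsg.Agent.H952.F4.Defs
import Cfsg.Agent.H952.F4.MaxA

/-!
# S5929, `n = 6`, `p = 2`: elements of `A₆` and the checked identities (helper9)
-/

set_option autoImplicit false
set_option maxRecDepth 100000

namespace Cfsg.Agent.R2.T1.N6D.Ck

open Equiv Equiv.Perm
open Cfsg.Agent.H952.F4.MaxA (z5' z5'_sign)

/-- the 3-cycle `(0 1 2)` -/
def ga : A6 := ⟨swap 0 1 * swap 1 2, mem_alternatingGroup.2 (by decide)⟩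

/-- the element `(0 3)(1 4 2 5)` -/
def gy : A6 := ⟨swap 0 3 * swap 1 4 * swap 4 2 * swap 2 5, mem_alternatingGroup.2 (by decide)⟩

/-- the 5-cycle -/
def g5 : A6 := ⟨z5', mem_alternatingGroup.2 z5'_sign⟩

/-- generators -/
def gen (k : ℕ) : A6 := if k = 0 then ga else if k = 1 then gy else g5

/-- their codes -/
def gcd (k : ℕ) : ℕ := if k = 0 then 44725 else if k = 1 then 10575 else 39865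

theorem cd_ga : cd ga = 44725 := by decide +kernel
theorem cd_g5 : cd g5 = 39865 := by decide +kernel
theorem cd_gy : cd gy = 10575 := by decide +kernel

theorem cd_gen (k : ℕ) : cd (gen k) = gcd k := by
  unfold gen gcd
  split_ifs
  · exact cd_ga
  · exact cd_gy
  · exact cd_g5

/-- lists of words -/
def W (l : List (List ℕ)) : List A6 := l.map (wd gen)

/-- lists of codes of words -/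
def Wc (l : List (List ℕ)) : List ℕ := l.map (wc gcd)

theorem map_W (l : List (List ℕ)) : (W l).map cd = Wc l := by
  unfold W Wc
  rw [List.map_map]
  refine List.map_congr_left fun w _ => ?_
  exact cd_wd cd_gen w

/-- concatenation of words -/
def wp (l l' : List (List ℕ)) : List (List ℕ) := l.flatMap fun u => l'.map fun v => u ++ v

/-- `1, a, a²` -/
def wA : List (List ℕ) := [[], [0], [0, 0]]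
/-- `1, a', a'²` -/
def wA' : List (List ℕ) := [[], [1, 0, 1, 1, 1], [1, 0, 0, 1, 1, 1]]
/-- `1, b, b²`, `b = a a'` -/
def wB : List (List ℕ) := [[], [0, 1, 0, 1, 1, 1], [0, 0, 1, 0, 0, 1, 1, 1]]
/-- `1, b', b'²`, `b' = a² a'` -/
def wB' : List (List ℕ) := [[], [0, 0, 1, 0, 1, 1, 1], [0, 1, 0, 0, 1, 1, 1]]
/-- the 3-group -/
def wE : List (List ℕ) := wp wA wA'
/-- the idempotent `e₁` -/
def w1 : List (List ℕ) := wp wA [[1, 0, 1, 1, 1], [1, 0, 0, 1, 1, 1]]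
/-- the idempotent `e₂` -/
def w2 : List (List ℕ) := wp wB [[0], [0, 0]]
/-- `(1 + y²) e₁` -/
def wPA : List (List ℕ) := w1 ++ wp [[1, 1]] w1
/-- `(1 + y²) e₂` -/
def wPB : List (List ℕ) := w2 ++ wp [[1, 1]] w2
/-- the powers of the 5-cycle -/
def wC : List (List ℕ) := [[], [2], [2, 2], [2, 2, 2], [2, 2, 2, 2]]
/-- the powers of `y` -/
def wY0 : List (List ℕ) := [[], [1], [1, 1], [1, 1, 1]]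
/-- the normalizer of the 3-group -/
def wY : List (List ℕ) := wp wE wY0
/-- the involution `w` -/
def ww : List ℕ := [1, 2, 0, 0, 1, 0]
def wx2 : List ℕ := [1, 2, 2, 0]
def wgA : List ℕ := [2, 2, 1, 2, 2, 0, 1]
def wgB : List ℕ := [2, 2, 0, 1]
/-- the certificate -/
def wRA : List (List ℕ) := [[0, 0, 2, 1, 1], [2, 0, 2, 2, 2], [2, 1, 0, 0, 2, 0], [2, 1, 0, 1, 1], [2, 1, 0, 0, 2],
  [2, 2, 1, 1, 2], [2, 2, 2, 2, 0], [2, 2, 2], [2, 1, 2, 2, 0, 1]]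
def wRB : List (List ℕ) := [[2, 1, 2, 0, 1], [1, 2, 0, 0], [1, 2, 0, 1, 0], [2, 1, 1, 2, 2, 1, 0], [1, 2, 2, 1, 1, 1],
  [0, 2, 2, 2, 1, 1], [0, 0, 2, 0, 2, 0], [2, 2, 2, 0, 2], [2, 2, 1, 2, 2, 0, 1]]

/-- the codes of `e_C g_A (1 + y²) e₁` -/
def cA : List ℕ := prc (Wc wC) (prc [wc gcd wgA] (Wc wPA))
def cB : List ℕ := prc (Wc wC) (prc [wc gcd wgB] (Wc wPB))

theorem chk_T2 : Nat.xor (Nat.xor (xs (prc cA (Wc wRA))) (xs (prc cB (Wc wRB))))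
    (Nat.xor (xs (Wc wC)) (xs (prc (Wc wC) [wc gcd wx2]))) = 0 := by decide +kernel

/-! ### the other identities -/

theorem chk_aPA : xs (prc [wc gcd [0]] (Wc wPA)) = xs (Wc wPA) := by decide +kernel
theorem chk_yPA : xs (prc [wc gcd [1, 1]] (Wc wPA)) = xs (Wc wPA) := by decide +kernel
theorem chk_kPA : xs (prc (Wc wA') (Wc wPA)) = 0 := by decide +kernel
theorem chk_bPB : xs (prc [wc gcd [0, 1, 0, 1, 1, 1]] (Wc wPB)) = xs (Wc wPB) := by decide +kernel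
theorem chk_yPB : xs (prc [wc gcd [1, 1]] (Wc wPB)) = xs (Wc wPB) := by decide +kernel
theorem chk_kPB : xs (prc (Wc wA) (Wc wPB)) = 0 := by decide +kernel

/-- canonical codes modulo `Y` -/
def ky (L : List ℕ) : ℕ := xs (L.map (canon (Wc wY)))

theorem chk_T1 : Nat.xor (ky (prc (Wc wC) (prc [wc gcd wgA] (prc (Wc w1) [wc gcd ww]))))
    (ky (prc (Wc wC) (prc [wc gcd wgB] (prc (Wc w2) [wc gcd ww])))) = 0 := by decide +kernel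

theorem chk_e1 : ky (prc [wc gcd [0]] (prc (Wc w1) [wc gcd ww])) = ky (prc (Wc w1) [wc gcd ww]) := by decide +kernel
theorem chk_e1k : ky (prc (Wc wA') (prc (Wc w1) [wc gcd ww])) = 0 := by decide +kernel
theorem chk_e1y : ky (prc [wc gcd [1, 1]] (prc (Wc w1) [wc gcd ww])) = ky (prc (Wc w1) [wc gcd ww]) := by decide +kernel
theorem chk_e2 : ky (prc [wc gcd [0, 1, 0, 1, 1, 1]] (prc (Wc w2) [wc gcd ww])) = ky (prc (Wc w2) [wc gcd ww]) := by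
  decide +kernel
theorem chk_e2k : ky (prc (Wc wA) (prc (Wc w2) [wc gcd ww])) = 0 := by decide +kernel
theorem chk_e2y : ky (prc [wc gcd [1, 1]] (prc (Wc w2) [wc gcd ww])) = ky (prc (Wc w2) [wc gcd ww]) := by decide +kernel

theorem chk_sum : Nat.xor (Nat.xor (ky [wc gcd ww]) (ky (prc (Wc wE) [wc gcd ww])))
    (Nat.xor (Nat.xor (ky (prc (Wc w1) [wc gcd ww])) (ky (prc (Wc w2) [wc gcd ww])))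
    (Nat.xor (ky (prc [wc gcd [1]] (prc (Wc w1) [wc gcd ww])))
    (ky (prc [wc gcd [1]] (prc (Wc w2) [wc gcd ww]))))) = 0 := by decide +kernel

theorem chk_aE : xs (prc [wc gcd [0]] (Wc wE)) = xs (Wc wE) := by decide +kernel
theorem chk_yE : xs (prc [wc gcd [1, 1]] (Wc wE)) = xs (prc (Wc wE) [wc gcd [1, 1]]) := by decide +kernel

/-- `v` fixed by `a`, `y`, `w a w` is fixed by the 5-cycle and by `x₂` -/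
theorem chk_w : wc (fun k => if k = 0 then wc gcd [0] else if k = 1 then wc gcd [1] else
    wc gcd ([1, 2, 0, 0, 1, 0] ++ [0] ++ [1, 2, 0, 0, 1, 0])) [0, 2, 2, 1, 0, 1] = wc gcd [2] ∧
  wc (fun k => if k = 0 then wc gcd [0] else if k = 1 then wc gcd [1] else
    wc gcd ([1, 2, 0, 0, 1, 0] ++ [0] ++ [1, 2, 0, 0, 1, 0])) [0, 1, 2, 2, 1, 0] = wc gcd wx2 := by decide +kernel

/-- words in the 5-cycle and `x₂` -/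
def wX : List (List ℕ) := [[1, 0, 1, 1, 0, 0, 1, 1],
 [1, 0, 1, 0, 0, 1, 1, 0],
 [1, 0, 1, 0, 0, 0, 1],
 [0, 0, 0, 0, 1, 0, 0],
 [0, 1, 0, 0, 0, 1, 0, 0],
 [1, 1, 0, 0, 1, 0, 1, 1],
 [1, 1, 0, 0, 0, 1, 1],
 [0, 0, 1, 1, 0, 1, 1],
 [0, 0, 0, 1, 1],
 [0, 0, 1, 0, 1, 1],
 [1, 1, 0, 1, 0, 0, 0, 1],
 [0, 1, 0, 1, 1, 0, 0, 1],
 [1, 0, 0, 0, 0, 1, 0, 0],
 [0, 1, 1, 0, 0, 1, 1, 0],
 [0, 1, 1, 0, 0, 0, 1],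
 [1, 1, 0, 0, 0, 0, 1],
 [0, 1, 0, 0, 1, 1],
 [1, 1, 0, 0, 0, 1, 1, 0],
 [0, 0, 0, 1, 1, 0],
 [1, 0, 1, 0, 0, 1, 1],
 [0, 0, 0, 0, 1],
 [0, 0, 1, 0, 1, 1, 0, 0],
 [1, 0, 0, 0, 0, 1],
 [1, 0, 0, 0, 1, 1, 0],
 [1, 1, 0, 1, 0, 0, 1, 1],
 [1, 0, 1, 0, 0, 0, 1, 0],
 [0, 0, 1, 0, 1, 1, 0],
 [0, 0, 1, 0, 0, 1],
 [0, 1, 1, 0, 0, 0, 1, 0],
 [1, 1, 0, 0, 0, 0, 1, 0],
 [0, 0, 0, 0, 1, 0],
 [1, 0, 0, 0, 0, 1, 0],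
 [1, 0, 0, 1, 0, 1, 1, 0],
 [0, 1, 0, 0, 0, 1, 0],
 [1, 0, 1, 1, 0, 0, 0, 1],
 [0, 1, 1, 0, 0, 1, 1],
 [1, 0, 0, 1, 0, 1, 1],
 [1, 0, 0, 1, 1, 0, 1, 1],
 [1, 0, 0, 0, 1, 1],
 [0, 1, 0, 0, 1, 1, 0],
 [0, 1, 0, 0, 0, 1],
 [0, 0, 1, 0, 0, 1, 0],
 [0, 0, 0, 1, 0, 1, 1, 0],
 [0, 0, 0, 1, 0, 0, 1],
 [1, 0, 0, 0, 1, 0, 1, 0],
 [1, 1, 0, 1],
 [1, 0],
 [1, 0, 0, 1, 0, 1, 0, 0],
 [0, 0, 1, 0, 0, 0, 1, 0],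
 [1, 0, 0],
 [1, 0, 1, 0, 1],
 [1, 1, 0, 1, 0, 0, 0],
 [0, 1, 0, 1, 0, 0, 0, 1],
 [1, 1, 0, 1, 1, 0, 1, 0],
 [1, 0, 1, 0, 1, 0],
 [1, 0, 1, 0, 1, 1, 0, 1],
 [0, 0, 0, 1, 0, 1, 1],
 [1, 1, 0, 1, 0, 0],
 [1, 0, 0, 0, 0],
 [1, 0, 0, 0, 1, 0, 1],
 [0, 0, 1, 0, 0, 1, 1],
 [1, 1, 0, 1, 0, 0, 0, 0],
 [1, 0, 0, 0, 0, 1, 0, 1],
 [1, 0, 1, 0, 1, 0, 0],
 [1],
 [1, 0, 0, 1, 0, 1, 0],
 [0, 1, 0, 0, 0, 1, 1, 0],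
 [1, 1, 0, 1, 1, 0, 1],
 [1, 1, 0, 1, 0],
 [1, 0, 0, 0],
 [1, 0, 0, 1, 0, 1],
 [0, 1, 0, 0, 0, 1, 1],
 [0, 1, 0, 0, 1, 0, 1, 1],
 [0, 0, 1, 0, 0, 1, 1, 0],
 [0, 0, 1, 0, 0, 0, 1],
 [0, 0, 0, 1, 0, 0, 1, 1],
 [1, 0, 0, 0, 1, 0, 0, 1],
 [1, 1, 0],
 [0, 1],
 [0, 1, 0, 0, 1, 0, 1, 0],
 [0, 1, 1, 0, 1],
 [0, 1, 0],
 [1, 0, 1, 0, 0, 0, 1, 1],
 [0, 0, 0, 0, 1, 0, 0, 1],
 [1, 0, 0, 1, 0, 0, 0, 1],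
 [1, 1, 0, 0, 0],
 [1, 1, 0, 0, 1, 0, 1],
 [0, 1, 0, 0],
 [1, 1, 0, 0, 0, 1, 0, 1],
 [1, 1, 0, 0, 0, 0],
 [1, 1, 0, 1, 0, 1, 0],
 [1, 1],
 [0, 1, 1, 0, 1, 0, 0],
 [0, 1, 0, 0, 0, 0],
 [1, 1, 0, 1, 0, 1],
 [1, 1, 0, 0],
 [0, 1, 1, 0, 1, 0],
 [0, 1, 0, 0, 0],
 [0, 1, 0, 0, 1, 0, 1],
 [1, 1, 0, 1, 1],
 [0, 1, 1],
 [1, 0, 1, 1],
 [0, 0, 1, 0, 0, 0, 0],
 [0, 1, 1, 0],
 [0, 0, 1],
 [1, 0, 1, 1, 0, 0],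
 [1, 0, 0, 1, 0, 0, 0],
 [1, 1, 0, 0, 1, 0],
 [1, 0, 0, 1],
 [1, 0, 1, 1, 0],
 [0, 0, 1, 0],
 [0, 0, 1, 1, 0, 1],
 [1, 1, 0, 1, 1, 0, 0],
 [0, 1, 1, 0, 0, 0],
 [1, 1, 0, 0, 1, 0, 0],
 [0, 0, 1, 0, 0],
 [0, 1, 1, 0, 0, 0, 0],
 [1, 0, 0, 1, 0, 0],
 [1, 1, 0, 0, 1],
 [1, 1, 0, 1, 1, 0],
 [0, 1, 1, 0, 0],
 [1, 0, 1, 1, 0, 0, 0],
 [1, 0, 0, 1, 0],
 [0, 0, 1, 1, 0, 1, 0],
 [1, 0, 0, 1, 1, 0, 1],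
 [0, 0, 1, 0, 0, 0],
 [0, 0, 0, 1, 0, 0],
 [1, 0, 0, 0, 1, 0, 0],
 [0, 1, 0, 0, 1, 0, 0],
 [0, 1, 1, 0, 1, 1],
 [0, 0, 1, 1],
 [0, 1, 0, 1, 1],
 [1, 0, 1, 1, 0, 0, 1],
 [1, 0, 1, 0, 0, 1, 0],
 [1, 1, 0, 0, 1, 1, 0],
 [1, 1, 0, 0, 0, 1],
 [1, 0, 1, 0, 1, 1],
 [1, 0, 0, 1, 1],
 [1, 0, 1, 1, 0, 1, 1],
 [0, 0, 1, 1, 0],
 [0, 0, 0, 1],
 [0, 1, 0, 1, 1, 0, 0],
 [0, 1, 1, 0, 0, 1, 0],
 [0, 1, 0, 1, 1, 0],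
 [0, 1, 0, 0, 1],
 [1, 1, 0, 0, 0, 1, 0],
 [1, 0, 1, 0, 1, 1, 0],
 [0, 0, 0, 1, 0],
 [1, 0, 1, 0, 0, 1],
 [1, 1, 0, 1, 0, 0, 1],
 [1, 0, 0, 0, 1, 0],
 [1, 1, 0, 1, 0, 1, 1],
 [1, 1, 0, 0, 1, 1],
 [0, 1, 1, 0, 1, 1, 0],
 [0, 1, 1, 0, 0, 1],
 [1, 0, 0, 1, 1, 0],
 [1, 0, 0, 0, 1],
 [0, 1, 0, 0, 1, 0],
 [0, 0, 0, 1, 0, 1, 0],
 [1, 0, 1],
 [0, 0, 1, 0, 1, 0, 0],
 [0],
 [0, 1, 0, 1],
 [0, 0],
 [1, 0, 1, 1, 0, 1, 0],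
 [1, 0, 1, 0, 0, 0],
 [1, 0, 1, 1, 0, 1],
 [1, 0, 1, 0],
 [0, 0, 0],
 [0, 0, 1, 0, 1],
 [0, 1, 0, 1, 0, 0, 0],
 [0, 1, 0, 1, 0],
 [0, 1, 0, 1, 1, 0, 1],
 [1, 0, 1, 0, 0],
 [0, 0, 0, 0],
 [0, 0, 0, 1, 0, 1],
 [1, 0, 1, 0, 0, 0, 0],
 [0, 0, 1, 0, 1, 0],
 [0, 0, 0, 0, 1, 0, 1],
 [0, 1, 0, 1, 0, 0],
 []]

/-- the codes of the two generators -/
def gc2 (k : ℕ) : ℕ := if k = 0 then wc gcd [2] else wc gcd wx2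

theorem chk_X : (wX.map (wc gc2)).Pairwise (· < ·) := by
  have h : List.IsChain (· < ·) (wX.map (wc gc2)) := by decide +kernel
  exact List.isChain_iff_pairwise.1 h

theorem len_X : wX.length = 181 := by decide +kernel

end Cfsg.Agent.R2.T1.N6D.Ck
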