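import Cfsg.Agent.R2.T1.N6D.Two

/-!
# S5929, `n = 6`, `p = 2`: the data of the module of degree 56 (helper25)
-/

set_option autoImplicit false
set_option maxRecDepth 100000

namespace Cfsg.Agent.R2.T1.N6D

open Cfsg Cfsg.Lie Module Equiv Equiv.Perm
open Cfsg.Agent.H943.E7V.Block (D1 rho)
open Cfsg.Agent.H952.F4 (ev MaxAlt)
open Cfsg.Agent.R2.T1

universe u

/-- the possible values `(dim V^x, m₁, m₂)` for an element `x` of order 5 -/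
def L5 : List (ℕ × ℕ × ℕ) :=
  [(0, 1, 27), (0, 27, 1), (0, 7, 21), (0, 21, 7), (2, 10, 17), (2, 17, 10), (12, 7, 15), (12, 15, 7), (6, 10, 15),
   (6, 15, 10), (10, 11, 12), (10, 12, 11), (12, 10, 12), (12, 12, 10)]

variable {F : Type u} [Field F] [Finite F] {H : Subgroup ↥(chevE7.group F)}
  {φ : ↥(alternatingGroup (Fin 6)) →* ↥(chevE7.group F)} {ψ : ↥(alternatingGroup (Fin 6)) →* Gh F}

/-- **the data of `V`** -/
theorem dataV (hM : MaxAlt H 6 φ) (hψ : Lift φ ψ) (h2 : (2 : F) = 0) {a b : ↥(alternatingGroup (Fin 6))}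
    (ha : a ^ 3 = 1) (hb : b ^ 3 = 1) (ha1 : a ≠ 1) (hb1 : b ≠ 1) (hI : Ineq F a b z5) (hl : Low F a b) :
    ∃ (dA dB d5 m1 m2 : ℕ) (τ : F), ev (V F (ψ a)) 1 = dA ∧ ev (V F (ψ b)) 1 = dB ∧ ev (V F (ψ z5)) 1 = d5 ∧
      dA ∈ [2, 14, 20, 32] ∧ dB ∈ [2, 14, 20, 32] ∧ (d5, m1, m2) ∈ L5 ∧ τ * τ + τ - 1 = 0 ∧
      finrank F ↥(LinearMap.ker (Five.qd τ (V F (ψ z5)))) = 2 * m1 ∧
      finrank F ↥(LinearMap.ker (Five.qd (-1 - τ) (V F (ψ z5)))) = 2 * m2 ∧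
      dA + dB + 3 * d5 ≤ 70 ∧ 28 ≤ dA + dB := by
  have iV := ineqV hM hψ hI
  have lV := hl (D1 → F) (MonoidHom.comp (V F) ψ)
  rw [finrank_V, MonoidHom.comp_apply, MonoidHom.comp_apply] at lV
  have h3 : (3 : F) ≠ 0 := by exact_mod_cast odd_ne h2 (N := 3) (by decide)
  have h5 : (5 : F) ≠ 0 := by exact_mod_cast odd_ne h2 (N := 5) (by decide)
  have hA : ψ a ^ 3 = 1 := by rw [← map_pow, ha, map_one]
  have hB : ψ b ^ 3 = 1 := by rw [← map_pow, hb, map_one]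
  have hC : ψ z5 ^ 5 = 1 := by rw [← map_pow, z5_pow, map_one]
  have mem : ∀ {x : Gh F}, x ^ 3 = 1 → x ≠ 1 → ev (V F x) 1 ∈ [2, 14, 20, 32] := by
    intro x hx hx1
    simp only [List.mem_cons, List.not_mem_nil, or_false]
    rcases three h3 hx hx1 with h | h | h | h | h <;> omega
  obtain ⟨P, hP, p1, -, h6⟩ := patF5 h5 hC
  have key : ∀ P ∈ T5, P.1.getD 0 0 = 56 ∨ 16 ≤ P.1.getD 0 0 ∨ (P.1.getD 1 0 ≠ P.1.getD 2 0 ∧
    (P.1.getD 0 0, P.1.getD 1 0, P.1.getD 2 0) ∈ L5) := by decide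
  rcases key P hP with h | h | ⟨h, h'⟩
  · rw [h] at p1
    exact absurd (eq_one_of_ev p1) (lift_inj hM hψ z5_ne)
  · omega
  · rcases h6 with ⟨h4, -⟩ | ⟨τ, h4, h6, -, h7, -⟩
    · exact absurd h4 h
    · exact ⟨_, _, _, _, _, τ, rfl, rfl, p1, mem hA (lift_inj hM hψ ha1), mem hB (lift_inj hM hψ hb1), h', h4, h6, h7,
        by omega, by omega⟩

end Cfsg.Agent.R2.T1.N6D
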