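import Cfsg.Agent.R2.T1.N6D.Ck2
import Cfsg.Agent.H944.E6Tab

/-!
# S5929, `n = 6`, `p = 2`: the inequality for the modules of `A₆` in characteristic 2 (helper9)

* `low_aux` : `2 (d(3A) + d(3B)) = n + 3 u`;
* `ineq_aux` : `4 (d(3A) + d(3B)) + 12 d(5) ≤ 5 n` for modules without invariants and coinvariants.
-/

set_option autoImplicit false
set_option maxRecDepth 100000

namespace Cfsg.Agent.R2.T1.N6D.Ck

open Module Equiv Equiv.Perm
open Cfsg.Agent.H952.F4 (ev)

universe u v

section lin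
variable {K : Type u} [Field K] {M : Type v} [AddCommGroup M] [Module K M] [FiniteDimensional K M]

theorem rk_split {f g : Module.End K M} (hf : f * f = f) (hg : g * g = g) (hfg : f * g = g * f) :
    finrank K ↥(LinearMap.range f) =
      finrank K ↥(LinearMap.range (f * g)) + finrank K ↥(LinearMap.range (f - f * g)) := by
  have h1 : LinearMap.range (f * g) ⊔ LinearMap.range (f - f * g) = LinearMap.range f := by
    apply le_antisymm
    · refine sup_le ?_ ?_
      · rintro _ ⟨x, rfl⟩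
        exact ⟨g x, rfl⟩
      · rintro _ ⟨x, rfl⟩
        exact ⟨x - g x, by rw [map_sub]; rfl⟩
    · rintro _ ⟨x, rfl⟩
      rw [Submodule.mem_sup]
      exact ⟨(f * g) x, ⟨x, rfl⟩, (f - f * g) x, ⟨x, rfl⟩, by rw [LinearMap.sub_apply, add_sub_cancel]⟩
  have h2 : LinearMap.range (f * g) ⊓ LinearMap.range (f - f * g) = ⊥ := by
    rw [eq_bot_iff]
    rintro z ⟨⟨x, hx⟩, ⟨y, hy⟩⟩
    have e1 : (f * g) * (f * g) = f * g := by
      rw [mul_assoc, ← mul_assoc g f g, ← hfg, mul_assoc f g g, hg, ← mul_assoc, hf]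
    have e2 : (f * g) * (f - f * g) = 0 := by
      rw [mul_sub, e1, mul_assoc, ← hfg, ← mul_assoc, hf, sub_self]
    have h3 : (f * g) z = z := by
      rw [← hx, ← Module.End.mul_apply, e1]
    have h4 : (f * g) z = 0 := by
      rw [← hy, ← Module.End.mul_apply, e2, LinearMap.zero_apply]
    rw [Submodule.mem_bot, ← h3, h4]
  have h3 := Submodule.finrank_sup_add_finrank_inf_eq (LinearMap.range (f * g)) (LinearMap.range (f - f * g))
  rw [h1, h2, finrank_bot, add_zero] at h3
  exact h3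

theorem half (h2 : ∀ x : M, x + x = 0) (S : Submodule K M) (T : Module.End K M) (hS : ∀ m ∈ S, T m ∈ S)
    (hT : ∀ m ∈ S, T (T m) = m) : finrank K ↥S ≤ 2 * finrank K ↥(S ⊓ Module.End.eigenspace T 1) := by
  set N : ↥S →ₗ[K] ↥S := (T.restrict hS) - 1 with hN
  have hNv : ∀ m : ↥S, ((N m : ↥S) : M) = T m - m := fun m => rfl
  have hle : LinearMap.range N ≤ LinearMap.ker N := by
    rintro _ ⟨m, rfl⟩
    rw [LinearMap.mem_ker]
    apply Subtype.ext
    rw [hNv, hNv, map_sub, hT m m.2]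
    have e1 := h2 (T m)
    have e2 := h2 (m : M)
    show (m : M) - T m - (T m - m) = 0
    have : (m : M) - T m - (T m - m) = ((m : M) + m) - (T m + T m) := by abel
    rw [this, e1, e2, sub_zero]
  have h1 := LinearMap.finrank_range_add_finrank_ker N
  have h3 := Submodule.finrank_mono hle
  have h5 : (LinearMap.ker N).map S.subtype = S ⊓ Module.End.eigenspace T 1 := by
    ext m
    rw [Submodule.mem_map, Submodule.mem_inf, Module.End.mem_eigenspace_iff, one_smul]
    constructor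
    · rintro ⟨m', hm', rfl⟩
      refine ⟨m'.2, ?_⟩
      have h5 := congrArg Subtype.val (LinearMap.mem_ker.1 hm')
      rw [hNv] at h5
      exact sub_eq_zero.1 h5
    · rintro ⟨hm, hm'⟩
      refine ⟨⟨m, hm⟩, ?_, rfl⟩
      rw [LinearMap.mem_ker]
      apply Subtype.ext
      rw [hNv]
      exact sub_eq_zero.2 hm'
  have h4 : finrank K ↥(LinearMap.ker N) = finrank K ↥(S ⊓ Module.End.eigenspace T 1) := by
    rw [← Submodule.finrank_map_subtype_eq S (LinearMap.ker N), h5]
  omega

end lin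

section
variable {K : Type u} [Field K] {M : Type v} [AddCommGroup M] [Module K M] [FiniteDimensional K M]
  (ρ : Representation K A6 M)

omit [FiniteDimensional K M] in
theorem two_zero (h2 : (2 : K) = 0) (x : M) : x + x = 0 := by rw [← two_smul K x, h2, zero_smul]

/-- the action of words -/
noncomputable abbrev aw (l : List (List ℕ)) : Module.End K M := act ρ (W l)

omit [FiniteDimensional K M] in
theorem aw_mul (l l' : List (List ℕ)) : aw ρ l * aw ρ l' = act ρ (pr (W l) (W l')) := (act_pr ρ _ _).symm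

omit [FiniteDimensional K M] in
theorem aw_one (w : List ℕ) : aw ρ [w] = ρ (wd gen w) := act_single ρ _

theorem cdW (l : List (List ℕ)) : (W l).map cd = Wc l := map_W l

theorem cd1 (w : List ℕ) : (W [w]).map cd = [wc gcd w] := map_W [w]

/-- fixed by `a` and `y`, hence by all words in them -/
theorem fix_words {v : M} (h0 : ρ ga v = v) (h1 : ρ gy v = v) : ∀ g ∈ W wY, ρ g v = v := by
  have key : ∀ l : List ℕ, (∀ k ∈ l, k = 0 ∨ k = 1) → ρ (wd gen l) v = v := by
    intro l
    induction l with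
    | nil =>
      intro _
      show ρ 1 v = v
      rw [map_one, Module.End.one_apply]
    | cons k l ih =>
      intro h
      have e : wd gen (k :: l) = gen k * wd gen l := List.prod_cons
      rw [e, map_mul, Module.End.mul_apply, ih fun j hj => h j (List.mem_cons_of_mem _ hj)]
      rcases h k List.mem_cons_self with hk | hk
      · rw [hk]; exact h0
      · rw [hk]; exact h1
  intro g hg
  obtain ⟨l, hl, rfl⟩ := List.mem_map.1 hg
  refine key l ?_
  have : ∀ l ∈ wY, ∀ k ∈ l, k = 0 ∨ k = 1 := by decide +kernel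
  exact this l hl

/-- the range of the average of a group of order 3 -/
theorem rg (hM : ∀ x : M, x + x = 0) {w w' : List ℕ} (h1 : xs (prc [wc gcd w] (Wc [[], w, w'])) = xs (Wc [[], w, w']))
    (h2 : wc gcd w' = mulc (wc gcd w) (wc gcd w)) :
    finrank K ↥(LinearMap.range (aw ρ [[], w, w'])) = ev (ρ (wd gen w)) 1 := by
  have e1 : ρ (wd gen w) * aw ρ [[], w, w'] = aw ρ [[], w, w'] := by
    rw [← aw_one, aw_mul]
    refine act_eq ρ hM ?_
    rw [map_pr, cdW, cdW]
    exact h1
  have e2 : wd gen w' = wd gen w * wd gen w := by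
    apply cd_inj
    rw [cd_mul, cd_wd cd_gen, cd_wd cd_gen]
    exact h2
  have e3 : LinearMap.range (aw ρ [[], w, w']) = Module.End.eigenspace (ρ (wd gen w)) 1 := by
    ext m
    rw [Module.End.mem_eigenspace_iff, one_smul]
    constructor
    · rintro ⟨x, rfl⟩
      rw [← Module.End.mul_apply, e1]
    · intro hm
      refine ⟨m, ?_⟩
      have h0 : ρ (wd gen []) m = m := by
        show ρ 1 m = m
        rw [map_one, Module.End.one_apply]
      show act ρ (W [[], w, w']) m = m
      have e : W [[], w, w'] = [wd gen [], wd gen w, wd gen w'] := rfl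
      rw [e, act_apply]
      show ρ (wd gen []) m + (ρ (wd gen w) m + (ρ (wd gen w') m + 0)) = m
      rw [e2, map_mul, Module.End.mul_apply, hm, hm, h0, add_zero, hM, add_zero]
  rw [e3]
  rfl

theorem one_eq : aw ρ [[]] = 1 := by
  rw [aw_one]
  exact map_one ρ

theorem act_sub (hM : ∀ x : M, x + x = 0) (f g : Module.End K M) : f - g = f + g := by
  refine LinearMap.ext fun x => ?_
  rw [LinearMap.sub_apply, LinearMap.add_apply, sub_eq_iff_eq_add, add_assoc, hM, add_zero]

/-- products -/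
theorem mul_of (hM : ∀ x : M, x + x = 0) {l l' l'' : List (List ℕ)} (h : xs (prc (Wc l) (Wc l')) = xs (Wc l'')) :
    aw ρ l * aw ρ l' = aw ρ l'' := by
  rw [aw_mul]
  refine act_eq ρ hM ?_
  rw [map_pr, cdW, cdW, cdW]
  exact h

/-- sums -/
theorem add_of (hM : ∀ x : M, x + x = 0) {l l' l'' : List (List ℕ)}
    (h : Nat.xor (xs (Wc l)) (xs (Wc l')) = xs (Wc l'')) : aw ρ l + aw ρ l' = aw ρ l'' := by
  rw [aw, aw, ← act_append]
  refine act_eq ρ hM ?_
  rw [List.map_append, cdW, cdW, cdW, xs_append]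
  exact h

/-- `a' `, conjugate of `a` -/
theorem ev_a' : ev (ρ (wd gen [1, 0, 1, 1, 1])) 1 = ev (ρ ga) 1 := by
  have e : wd gen [1, 0, 1, 1, 1] = gy * ga * gy⁻¹ := by
    rw [eq_mul_inv_iff_mul_eq]
    apply cd_inj
    rw [cd_mul, cd_mul, cd_wd cd_gen, cd_ga, cd_gy]
    decide +kernel
  rw [e, Cfsg.Agent.H944.E6T.ev_conj]

/-- `b = a a'` -/
def gb : A6 := wd gen [0, 1, 0, 1, 1, 1]

theorem ev_b' : ev (ρ (wd gen [0, 0, 1, 0, 1, 1, 1])) 1 = ev (ρ gb) 1 := by
  have e : wd gen [0, 0, 1, 0, 1, 1, 1] = gy * gb * gy⁻¹ := by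
    rw [eq_mul_inv_iff_mul_eq]
    apply cd_inj
    rw [gb, cd_mul, cd_mul, cd_wd cd_gen, cd_wd cd_gen, cd_gy]
    decide +kernel
  rw [e, Cfsg.Agent.H944.E6T.ev_conj]

/-- the dimension of the fixed space of the 3-group -/
noncomputable def du : ℕ := finrank K ↥(LinearMap.range (aw ρ wE))

/-- `e₁` has rank `d(3A) - u` -/
theorem rk1 (hM : ∀ x : M, x + x = 0) : ev (ρ ga) 1 = du ρ + finrank K ↥(LinearMap.range (aw ρ w1)) := by
  have h := rk_split (f := aw ρ wA) (g := aw ρ wA') (mul_of ρ hM (by decide +kernel)) (mul_of ρ hM (by decide +kernel))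
    ((mul_of ρ hM (l'' := wE) (by decide +kernel)).trans (mul_of ρ hM (l'' := wE) (by decide +kernel)).symm)
  rw [mul_of ρ hM (l'' := wE) (by decide +kernel), act_sub hM, add_of ρ hM (l'' := w1) (by decide +kernel)] at h
  have r := rg ρ hM (w := [0]) (w' := [0, 0]) (by decide +kernel) (by decide +kernel)
  have e : wd gen [0] = ga := by
    apply cd_inj
    rw [cd_wd cd_gen, cd_ga]
    decide +kernel
  rw [e] at r
  exact r.symm.trans h

/-- `e₂` has rank `d(3B) - u` -/
theorem rk2 (hM : ∀ x : M, x + x = 0) : ev (ρ gb) 1 = du ρ + finrank K ↥(LinearMap.range (aw ρ w2)) := by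
  have h := rk_split (f := aw ρ wB) (g := aw ρ wA) (mul_of ρ hM (by decide +kernel)) (mul_of ρ hM (by decide +kernel))
    ((mul_of ρ hM (l'' := wE) (by decide +kernel)).trans (mul_of ρ hM (l'' := wE) (by decide +kernel)).symm)
  rw [mul_of ρ hM (l'' := wE) (by decide +kernel), act_sub hM, add_of ρ hM (l'' := w2) (by decide +kernel)] at h
  have r := rg ρ hM (w := [0, 1, 0, 1, 1, 1]) (w' := [0, 0, 1, 0, 0, 1, 1, 1]) (by decide +kernel) (by decide +kernel)
  exact r.symm.trans h

/-- `2 (d(3A) + d(3B)) = n + 3 u` -/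
theorem low_aux (hM : ∀ x : M, x + x = 0) : 2 * (ev (ρ ga) 1 + ev (ρ gb) 1) = finrank K M + 3 * du ρ := by
  -- the four cyclic subgroups
  have cE : ∀ l ∈ [wA, wA', wB, wB'], ∀ l' ∈ [wA, wA', wB, wB'], l ≠ l' → xs (prc (Wc l) (Wc l')) = xs (Wc wE) := by
    decide +kernel
  have cI : ∀ l ∈ [wA, wA', wB, wB'], xs (prc (Wc l) (Wc l)) = xs (Wc l) := by decide +kernel
  have mE : ∀ l ∈ [wA, wA', wB, wB'], ∀ l' ∈ [wA, wA', wB, wB'], l ≠ l' → aw ρ l * aw ρ l' = aw ρ wE :=
    fun l hl l' hl' h => mul_of ρ hM (cE l hl l' hl' h)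
  have mI : ∀ l ∈ [wA, wA', wB, wB'], aw ρ l * aw ρ l = aw ρ l := fun l hl => mul_of ρ hM (cI l hl)
  have mA : wA ∈ [wA, wA', wB, wB'] := by decide +kernel
  have mA' : wA' ∈ [wA, wA', wB, wB'] := by decide +kernel
  have mB : wB ∈ [wA, wA', wB, wB'] := by decide +kernel
  have mB' : wB' ∈ [wA, wA', wB, wB'] := by decide +kernel
  have rA := rg ρ hM (w := [0]) (w' := [0, 0]) (by decide +kernel) (by decide +kernel)
  have rA' := rg ρ hM (w := [1, 0, 1, 1, 1]) (w' := [1, 0, 0, 1, 1, 1]) (by decide +kernel) (by decide +kernel)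
  have rB := rg ρ hM (w := [0, 1, 0, 1, 1, 1]) (w' := [0, 0, 1, 0, 0, 1, 1, 1]) (by decide +kernel) (by decide +kernel)
  have rB' := rg ρ hM (w := [0, 0, 1, 0, 1, 1, 1]) (w' := [0, 1, 0, 0, 1, 1, 1]) (by decide +kernel) (by decide +kernel)
  have e : wd gen [0] = ga := by
    apply cd_inj
    rw [cd_wd cd_gen, cd_ga]
    decide +kernel
  rw [e] at rA
  rw [ev_a'] at rA'
  rw [ev_b'] at rB'
  -- `n = d(a) + rank (1 + π_a)`
  set pA := aw ρ wA with hpA
  set pA' := aw ρ wA' with hpA'
  set pB := aw ρ wB with hpB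
  set pB' := aw ρ wB' with hpB'
  set pE := aw ρ wE with hpE
  have s1 := rk_split (f := (1 : Module.End K M)) (g := pA) (one_mul 1) (mI _ mA) (by rw [one_mul, mul_one])
  have s2 := rk_split (f := pA') (g := pA) (mI _ mA') (mI _ mA)
    ((mE _ mA' _ mA (by decide)).trans (mE _ mA _ mA' (by decide)).symm)
  have s3 := rk_split (f := pB) (g := pA) (mI _ mB) (mI _ mA)
    ((mE _ mB _ mA (by decide)).trans (mE _ mA _ mB (by decide)).symm)
  have s4 := rk_split (f := pB') (g := pA) (mI _ mB') (mI _ mA)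
    ((mE _ mB' _ mA (by decide)).trans (mE _ mA _ mB' (by decide)).symm)
  rw [one_mul] at s1
  rw [mE _ mA' _ mA (by decide)] at s2
  rw [mE _ mB _ mA (by decide)] at s3
  rw [mE _ mB' _ mA (by decide)] at s4
  have hE : ∀ l ∈ [wA, wA', wB, wB'], aw ρ l * pE = pE ∧ pE * aw ρ l = pE := by
    have c1 : ∀ l ∈ [wA, wA', wB, wB'], xs (prc (Wc l) (Wc wE)) = xs (Wc wE) := by decide +kernel
    have c2 : ∀ l ∈ [wA, wA', wB, wB'], xs (prc (Wc wE) (Wc l)) = xs (Wc wE) := by decide +kernel
    exact fun l hl => ⟨mul_of ρ hM (c1 l hl), mul_of ρ hM (c2 l hl)⟩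
  -- split `1 - π_a` by `π_a'`
  have comA : pA * pA' = pA' * pA := (mE _ mA _ mA' (by decide)).trans (mE _ mA' _ mA (by decide)).symm
  have comB : pB * pA = pA * pB := (mE _ mB _ mA (by decide)).trans (mE _ mA _ mB (by decide)).symm
  have comB2 : pB * pA' = pA' * pB := (mE _ mB _ mA' (by decide)).trans (mE _ mA' _ mB (by decide)).symm
  have i1 : (1 - pA) * (1 - pA) = 1 - pA := by
    have h1 : pA * pA = pA := mI _ mA
    simp only [mul_sub, sub_mul, mul_one, one_mul, h1, sub_self, sub_zero]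
  have s5 := rk_split (f := 1 - pA) (g := pA') i1 (mI _ mA') (by rw [sub_mul, mul_sub, one_mul, mul_one, comA])
  have e5 : (1 - pA) * pA' = pA' - pE := by rw [sub_mul, one_mul, mE _ mA _ mA' (by decide)]
  rw [e5] at s5
  -- split the rest by `π_b`
  set r := 1 - pA - (pA' - pE) with hr
  have i2 : r * r = r := by
    have h1 : pA * pA = pA := mI _ mA
    have h2 : pA' * pA' = pA' := mI _ mA'
    have h3 : pA * pA' = pE := mE _ mA _ mA' (by decide)
    have h4 : pA' * pA = pE := mE _ mA' _ mA (by decide)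
    have h5 := (hE _ mA).1
    have h6 := (hE _ mA).2
    have h7 := (hE _ mA').1
    have h8 := (hE _ mA').2
    have h9 : pE * pE = pE := mul_of ρ hM (by decide +kernel)
    rw [hr]
    simp only [mul_sub, sub_mul, mul_one, one_mul]
    rw [← hpA] at h5 h6
    rw [← hpA'] at h7 h8
    rw [h1, h2, h3, h4, h5, h6, h7, h8, h9]
    abel
  have e6 : r * pB = pB - pE := by
    rw [hr]
    simp only [sub_mul, one_mul]
    rw [mE _ mA _ mB (by decide), mE _ mA' _ mB (by decide), (hE _ mB).2]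
    abel
  have e7 : pB * r = pB - pE := by
    rw [hr]
    simp only [mul_sub, mul_one]
    rw [mE _ mB _ mA (by decide), mE _ mB _ mA' (by decide), (hE _ mB).1]
    abel
  have s6 := rk_split (f := r) (g := pB) i2 (mI _ mB) (e6.trans e7.symm)
  rw [e6] at s6
  have e8 : r - (pB - pE) = pB' - pE := by
    have h1 : aw ρ [[]] + aw ρ wA = aw ρ ([[]] ++ wA) := add_of ρ hM (by decide +kernel)
    have h2 : aw ρ ([[]] ++ wA) + aw ρ wA' = aw ρ ([[]] ++ wA ++ wA') := add_of ρ hM (by decide +kernel)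
    have h3 : aw ρ ([[]] ++ wA ++ wA') + aw ρ wB = aw ρ (wB' ++ wE) := add_of ρ hM (by decide +kernel)
    have h4 : aw ρ wB' + aw ρ wE = aw ρ (wB' ++ wE) := add_of ρ hM (by decide +kernel)
    rw [one_eq] at h1
    have h5 : ∀ f : Module.End K M, f + f = 0 := fun f => LinearMap.ext fun x => hM (f x)
    have h6 : r - (pB - pE) = 1 + pA + pA' + pB + (pE + pE) := by
      rw [hr]
      simp only [act_sub hM]
      abel
    rw [h6, h5, add_zero, act_sub hM, h4, h1, h2, h3]
  rw [e8] at s6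
  have h1 : finrank K ↥(LinearMap.range (1 : Module.End K M)) = finrank K M := by
    rw [Module.End.one_eq_id, LinearMap.range_id, finrank_top]
  have hu : finrank K ↥(LinearMap.range pE) = du ρ := rfl
  have q1 : finrank K ↥(LinearMap.range pA) = ev (ρ ga) 1 := rA
  have q2 : finrank K ↥(LinearMap.range pA') = ev (ρ ga) 1 := rA'
  have q3 : finrank K ↥(LinearMap.range pB) = ev (ρ gb) 1 := rB
  have q4 : finrank K ↥(LinearMap.range pB') = ev (ρ gb) 1 := rB'
  omega

end

end Cfsg.Agent.R2.T1.N6D.Ck
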