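import Cfsg.Agent.R2.T1.N6D.Ineq

/-!
# S5929, `n = 6`, `p = 2`: the inequality (helper9), second part

* `dA`, `dB` : `2 dim A ≤ d(3A) - u`, `2 dim B ≤ d(3B) - u`;
* `dY` : `u ≤ 4 dim M^Y`;
* `count` : `d(5) + dim M^Y ≤ dim A + dim B`, if `M` has no invariants and coinvariants;
* `ineq_aux`.
-/

set_option autoImplicit false
set_option maxRecDepth 100000

namespace Cfsg.Agent.R2.T1.N6D.Ck

open Module Equiv Equiv.Perm
open Cfsg.Agent.H952.F4 (ev)

universe u v

section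
variable {K : Type u} [Field K] {M : Type v} [AddCommGroup M] [Module K M] [FiniteDimensional K M]
  (ρ : Representation K A6 M)

omit [FiniteDimensional K M] in
theorem wd0 : wd gen [0] = ga := by
  apply cd_inj
  rw [cd_wd cd_gen, cd_ga]
  decide +kernel

theorem wd1 : wd gen [1] = gy := by
  apply cd_inj
  rw [cd_wd cd_gen, cd_gy]
  decide +kernel

theorem wd2 : wd gen [2] = g5 := by
  apply cd_inj
  rw [cd_wd cd_gen, cd_g5]
  decide +kernel

/-- fixed by `g` -/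
def Fx (g : A6) : Submodule K M := Module.End.eigenspace (ρ g) 1

omit [FiniteDimensional K M] in
theorem mem_Fx {g : A6} {m : M} : m ∈ Fx ρ g ↔ ρ g m = m := by
  unfold Fx
  rw [Module.End.mem_eigenspace_iff, one_smul]

/-- the submodule `A` -/
noncomputable def SA : Submodule K M := (Fx ρ (wd gen [0]) ⊓ LinearMap.ker (aw ρ wA')) ⊓ Fx ρ (wd gen [1, 1])

/-- the submodule `B` -/
noncomputable def SB : Submodule K M := (Fx ρ gb ⊓ LinearMap.ker (aw ρ wA)) ⊓ Fx ρ (wd gen [1, 1])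

/-- the general form of the estimate of the dimension of `A` and `B` -/
theorem dS (hM : ∀ x : M, x + x = 0) {S T : Submodule K M} {P : Module.End K M} {g y : A6} (hS : ∀ m ∈ S, m ∈ T)
    (hg : ∀ m ∈ T, ρ g m ∈ T) (hy : ∀ m ∈ S, ρ y m = m) (hP : ∀ m ∈ S, P m = 0)
    (hPg : ∀ m, P m = m + ρ g m + ρ (g * g) m) (hyg : y * g = g * g * y) :
    2 * finrank K ↥S ≤ finrank K ↥T := by
  set f : ↥S × ↥S →ₗ[K] M := S.subtype.coprod ((ρ g).comp S.subtype) with hf
  have hfv : ∀ x : ↥S × ↥S, f x = (x.1 : M) + ρ g x.2 := fun x => rfl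
  have hinj : Function.Injective f := by
    rw [← LinearMap.ker_eq_bot, eq_bot_iff]
    rintro ⟨m1, m2⟩ hx
    rw [LinearMap.mem_ker, hfv] at hx
    have h1 : (m1 : M) = ρ g m2 := add_right_cancel (hx.trans (hM (ρ g m2)).symm)
    have h2 : ρ y (m1 : M) = m1 := hy _ m1.2
    have h3 : ρ y (m2 : M) = m2 := hy _ m2.2
    have h4 : ρ (g * g) (m2 : M) = ρ g m2 := by
      rw [h1, ← Module.End.mul_apply, ← map_mul, hyg, map_mul, Module.End.mul_apply, h3] at h2
      exact h2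
    have h5 : ρ g (m2 : M) = m2 := by
      rw [map_mul, Module.End.mul_apply] at h4
      have h6 := congrArg (ρ g⁻¹) h4
      rw [← Module.End.mul_apply, ← map_mul, inv_mul_cancel, map_one, Module.End.one_apply, ← Module.End.mul_apply,
        ← map_mul, inv_mul_cancel, map_one, Module.End.one_apply] at h6
      exact h6
    have h6 : (m2 : M) = 0 := by
      have h7 := hPg m2
      rw [hP _ m2.2, h4, h5, hM, zero_add] at h7
      exact h7.symm
    have h7 : (m1 : M) = 0 := by rw [h1, h6, map_zero]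
    rw [Submodule.mem_bot]
    exact Prod.ext (Subtype.ext h7) (Subtype.ext h6)
  have h1 := LinearMap.finrank_range_of_inj hinj
  rw [Module.finrank_prod] at h1
  have h2 : LinearMap.range f ≤ T := by
    rintro _ ⟨x, rfl⟩
    rw [hfv]
    exact T.add_mem (hS _ x.1.2) (hg _ (hS _ x.2.2))
  have h3 := Submodule.finrank_mono h2
  omega

theorem dA (hM : ∀ x : M, x + x = 0) : 2 * finrank K ↥(SA ρ) + du ρ ≤ ev (ρ ga) 1 := by
  have e : wd gen [1, 0, 0, 1, 1, 1] = wd gen [1, 0, 1, 1, 1] * wd gen [1, 0, 1, 1, 1] := by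
    apply cd_inj
    rw [cd_mul, cd_wd cd_gen, cd_wd cd_gen]
    decide +kernel
  have e' : wd gen [0, 0] = wd gen [0] * wd gen [0] := by
    apply cd_inj
    rw [cd_mul, cd_wd cd_gen, cd_wd cd_gen]
    decide +kernel
  have h := dS ρ hM (S := SA ρ) (T := LinearMap.range (aw ρ w1)) (P := aw ρ wA') (g := wd gen [1, 0, 1, 1, 1])
    (y := wd gen [1, 1]) ?_ ?_ (fun m hm => (mem_Fx ρ).1 hm.2) (fun m hm => hm.1.2) ?_ ?_
  · have h2 := rk1 ρ hM
    omega
  · intro m hm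
    refine ⟨m, ?_⟩
    have h1 : aw ρ w1 = aw ρ wA * (1 + aw ρ wA') := by
      rw [mul_add, mul_one, ← mul_of ρ hM (l := [[]]) (l' := w1) (l'' := w1) (by decide +kernel), one_eq, one_mul,
        mul_of ρ hM (l := wA) (l' := wA') (l'' := wE) (by decide +kernel)]
      exact (add_of ρ hM (by decide +kernel)).symm
    rw [h1, Module.End.mul_apply, LinearMap.add_apply, LinearMap.mem_ker.1 hm.1.2, add_zero, Module.End.one_apply]
    have h2 : ρ (wd gen [0]) m = m := (mem_Fx ρ).1 hm.1.1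
    show act ρ (W [[], [0], [0, 0]]) m = m
    have e3 : W [[], [0], [0, 0]] = [1, wd gen [0], wd gen [0, 0]] := rfl
    rw [e3, act_apply]
    show ρ 1 m + (ρ (wd gen [0]) m + (ρ (wd gen [0, 0]) m + 0)) = m
    rw [e', map_mul, Module.End.mul_apply, h2, h2, map_one, Module.End.one_apply, add_zero, hM, add_zero]
  · rintro _ ⟨x, rfl⟩
    have h1 : ρ (wd gen [1, 0, 1, 1, 1]) * aw ρ w1 = aw ρ w1 * ρ (wd gen [1, 0, 1, 1, 1]) := by
      rw [← aw_one, aw_mul, aw_mul]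
      refine act_eq ρ hM ?_
      rw [map_pr, map_pr, cdW, cdW]
      decide +kernel
    exact ⟨ρ (wd gen [1, 0, 1, 1, 1]) x, by rw [← Module.End.mul_apply, ← h1, Module.End.mul_apply]⟩
  · intro m
    show act ρ (W [[], [1, 0, 1, 1, 1], [1, 0, 0, 1, 1, 1]]) m = _
    have e3 : W [[], [1, 0, 1, 1, 1], [1, 0, 0, 1, 1, 1]] =
      [1, wd gen [1, 0, 1, 1, 1], wd gen [1, 0, 0, 1, 1, 1]] := rfl
    rw [e3, act_apply]
    show ρ 1 m + (ρ (wd gen [1, 0, 1, 1, 1]) m + (ρ (wd gen [1, 0, 0, 1, 1, 1]) m + 0)) = _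
    rw [e, map_one, Module.End.one_apply, add_zero, add_assoc]
  · apply cd_inj
    simp only [cd_mul, cd_wd cd_gen]
    decide +kernel

theorem dB (hM : ∀ x : M, x + x = 0) : 2 * finrank K ↥(SB ρ) + du ρ ≤ ev (ρ gb) 1 := by
  have e : wd gen [0, 0] = wd gen [0] * wd gen [0] := by
    apply cd_inj
    rw [cd_mul, cd_wd cd_gen, cd_wd cd_gen]
    decide +kernel
  have e' : wd gen [0, 0, 1, 0, 0, 1, 1, 1] = gb * gb := by
    apply cd_inj
    rw [gb, cd_mul, cd_wd cd_gen, cd_wd cd_gen]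
    decide +kernel
  have h := dS ρ hM (S := SB ρ) (T := LinearMap.range (aw ρ w2)) (P := aw ρ wA) (g := wd gen [0])
    (y := wd gen [1, 1]) ?_ ?_ (fun m hm => (mem_Fx ρ).1 hm.2) (fun m hm => hm.1.2) ?_ ?_
  · have h2 := rk2 ρ hM
    omega
  · intro m hm
    refine ⟨m, ?_⟩
    have h1 : aw ρ w2 = aw ρ wB * (1 + aw ρ wA) := by
      rw [mul_add, mul_one, ← mul_of ρ hM (l := [[]]) (l' := w2) (l'' := w2) (by decide +kernel), one_eq, one_mul,
        mul_of ρ hM (l := wB) (l' := wA) (l'' := wE) (by decide +kernel)]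
      exact (add_of ρ hM (by decide +kernel)).symm
    rw [h1, Module.End.mul_apply, LinearMap.add_apply, LinearMap.mem_ker.1 hm.1.2, add_zero, Module.End.one_apply]
    have h2 : ρ gb m = m := (mem_Fx ρ).1 hm.1.1
    show act ρ (W [[], [0, 1, 0, 1, 1, 1], [0, 0, 1, 0, 0, 1, 1, 1]]) m = m
    have e3 : W [[], [0, 1, 0, 1, 1, 1], [0, 0, 1, 0, 0, 1, 1, 1]] = [1, gb, wd gen [0, 0, 1, 0, 0, 1, 1, 1]] := rfl
    rw [e3, act_apply]
    show ρ 1 m + (ρ gb m + (ρ (wd gen [0, 0, 1, 0, 0, 1, 1, 1]) m + 0)) = m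
    rw [e', map_mul, Module.End.mul_apply, h2, h2, map_one, Module.End.one_apply, add_zero, hM, add_zero]
  · rintro _ ⟨x, rfl⟩
    have h1 : ρ (wd gen [0]) * aw ρ w2 = aw ρ w2 * ρ (wd gen [0]) := by
      rw [← aw_one, aw_mul, aw_mul]
      refine act_eq ρ hM ?_
      rw [map_pr, map_pr, cdW, cdW]
      decide +kernel
    exact ⟨ρ (wd gen [0]) x, by rw [← Module.End.mul_apply, ← h1, Module.End.mul_apply]⟩
  · intro m
    show act ρ (W [[], [0], [0, 0]]) m = _
    have e3 : W [[], [0], [0, 0]] = [1, wd gen [0], wd gen [0, 0]] := rfl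
    rw [e3, act_apply]
    show ρ 1 m + (ρ (wd gen [0]) m + (ρ (wd gen [0, 0]) m + 0)) = _
    rw [e, map_one, Module.End.one_apply, add_zero, add_assoc]
  · apply cd_inj
    simp only [cd_mul, cd_wd cd_gen]
    decide +kernel

/-- the fixed space of `Y` -/
noncomputable def SY : Submodule K M := (LinearMap.range (aw ρ wE) ⊓ Fx ρ (wd gen [1, 1])) ⊓ Fx ρ (wd gen [1])

theorem dY (hM : ∀ x : M, x + x = 0) : du ρ ≤ 4 * finrank K ↥(SY ρ) := by
  have c1 : ρ (wd gen [1, 1]) * aw ρ wE = aw ρ wE * ρ (wd gen [1, 1]) := by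
    rw [← aw_one, aw_mul, aw_mul]
    refine act_eq ρ hM ?_
    rw [map_pr, map_pr, cdW, cdW]
    decide +kernel
  have c2 : ρ (wd gen [1]) * aw ρ wE = aw ρ wE * ρ (wd gen [1]) := by
    rw [← aw_one, aw_mul, aw_mul]
    refine act_eq ρ hM ?_
    rw [map_pr, map_pr, cdW, cdW]
    decide +kernel
  have e1 : wd gen [1, 1] * wd gen [1, 1] = 1 := by
    apply cd_inj
    rw [cd_mul, cd_wd cd_gen, cd_one]
    decide +kernel
  have e2 : wd gen [1, 1] = wd gen [1] * wd gen [1] := by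
    apply cd_inj
    rw [cd_mul, cd_wd cd_gen, cd_wd cd_gen]
    decide +kernel
  have h1 := half hM (LinearMap.range (aw ρ wE)) (ρ (wd gen [1, 1])) ?_ ?_
  · have h2 := half hM (LinearMap.range (aw ρ wE) ⊓ Fx ρ (wd gen [1, 1])) (ρ (wd gen [1])) ?_ ?_
    · have e3 : finrank K ↥(LinearMap.range (aw ρ wE)) = du ρ := rfl
      have e4 : finrank K ↥(LinearMap.range (aw ρ wE) ⊓ Module.End.eigenspace (ρ (wd gen [1, 1])) 1) =
        finrank K ↥(LinearMap.range (aw ρ wE) ⊓ Fx ρ (wd gen [1, 1])) := rfl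
      have e5 : finrank K ↥((LinearMap.range (aw ρ wE) ⊓ Fx ρ (wd gen [1, 1])) ⊓
        Module.End.eigenspace (ρ (wd gen [1])) 1) = finrank K ↥(SY ρ) := rfl
      omega
    · rintro m ⟨⟨x, hx⟩, hm⟩
      refine ⟨⟨ρ (wd gen [1]) x, ?_⟩, ?_⟩
      · rw [← Module.End.mul_apply, ← c2, Module.End.mul_apply, hx]
      · have h3 : ρ (wd gen [1, 1]) m = m := (mem_Fx ρ).1 hm
        refine (mem_Fx ρ).2 ?_
        rw [← Module.End.mul_apply, ← map_mul, e2, mul_assoc, ← e2, map_mul, Module.End.mul_apply, h3]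
    · rintro m ⟨_, hm⟩
      have h3 : ρ (wd gen [1, 1]) m = m := (mem_Fx ρ).1 hm
      rw [← Module.End.mul_apply, ← map_mul, ← e2, h3]
  · rintro m ⟨x, hx⟩
    refine ⟨ρ (wd gen [1, 1]) x, ?_⟩
    rw [← Module.End.mul_apply, ← c1, Module.End.mul_apply, hx]
  · rintro m _
    rw [← Module.End.mul_apply, ← map_mul, e1, map_one, Module.End.one_apply]

end

end Cfsg.Agent.R2.T1.N6D.Ck
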