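import Cfsg.Agent.R2.T1.N6D.Ineq2

/-!
# S5929, `n = 6`, `p = 2`: the inequality (helper9), third part
-/

set_option autoImplicit false
set_option maxRecDepth 100000
set_option linter.unusedSectionVars false

namespace Cfsg.Agent.R2.T1.N6D.Ck

open Module Equiv Equiv.Perm
open Cfsg.Agent.H952.F4 (ev)

universe u v

/-- the second generator -/
def gx : A6 := wd gen wx2

theorem cd_gx : cd gx = wc gcd wx2 := cd_wd cd_gen _

/-- the two generators -/
def g2 (k : ℕ) : A6 := if k = 0 then g5 else gx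

theorem cd_g2 (k : ℕ) : cd (g2 k) = gc2 k := by
  unfold g2 gc2
  by_cases hk : k = 0
  · rw [if_pos hk, if_pos hk, cd_g5]
    decide +kernel
  · rw [if_neg hk, if_neg hk]
    exact cd_gx

/-- the 5-cycle and `x₂` generate `A₆` -/
theorem closure_top : Subgroup.closure ({g5, gx} : Set A6) = ⊤ := by
  classical
  have hm : ∀ l : List ℕ, wd g2 l ∈ Subgroup.closure ({g5, gx} : Set A6) := by
    intro l
    refine Subgroup.list_prod_mem _ fun x hx => ?_
    obtain ⟨k, _, rfl⟩ := List.mem_map.1 hx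
    apply Subgroup.subset_closure
    unfold g2
    by_cases hk : k = 0
    · rw [if_pos hk]
      exact Set.mem_insert _ _
    · rw [if_neg hk]
      exact Set.mem_insert_of_mem _ rfl
  have h1 : (wX.map (wd g2)).Nodup := by
    refine List.Nodup.of_map cd ?_
    rw [List.map_map]
    have e : List.map (cd ∘ wd g2) wX = wX.map (wc gc2) := List.map_congr_left fun l _ => cd_wd cd_g2 l
    rw [e]
    exact chk_X.imp fun h => ne_of_lt h
  have h2 : (wX.map (wd g2)).toFinset.card = 181 := by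
    rw [List.toFinset_card_of_nodup h1, List.length_map, len_X]
  have h3 : 181 ≤ Nat.card ↥(Subgroup.closure ({g5, gx} : Set A6)) := by
    rw [← h2, ← Set.ncard_coe_finset, ← SetLike.coe_sort_coe, Nat.card_coe_set_eq]
    refine Set.ncard_le_ncard ?_ (Set.toFinite _)
    intro x hx
    rw [Finset.mem_coe, List.mem_toFinset, List.mem_map] at hx
    obtain ⟨l, _, rfl⟩ := hx
    exact hm l
  have h4 : Nat.card A6 = 360 := by
    have h : 2 * Nat.card A6 = Nat.card (Perm (Fin 6)) := two_mul_nat_card_alternatingGroup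
    have e : Nat.card (Perm (Fin 6)) = 720 := by
      rw [Nat.card_perm, Nat.card_eq_fintype_card (α := Fin 6), Fintype.card_fin]
      rfl
    rw [e] at h
    generalize Nat.card A6 = c at h ⊢
    omega
  have h5 := Subgroup.card_mul_index (Subgroup.closure ({g5, gx} : Set A6))
  rw [h4] at h5
  have h6 : (Subgroup.closure ({g5, gx} : Set A6)).index = 1 := by
    generalize (Subgroup.closure ({g5, gx} : Set A6)).index = i at h5 ⊢
    generalize Nat.card ↥(Subgroup.closure ({g5, gx} : Set A6)) = c at h3 h5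
    have hi : i < 2 := by
      by_contra hc
      have : c * 2 ≤ c * i := Nat.mul_le_mul_left c (by omega)
      omega
    have h0 : i ≠ 0 := by
      intro h0
      rw [h0, mul_zero] at h5
      omega
    omega
  exact Subgroup.index_eq_one.1 h6

section
variable {K : Type u} [Field K] {M : Type v} [AddCommGroup M] [Module K M] [FiniteDimensional K M]
  (ρ : Representation K A6 M)

omit [FiniteDimensional K M] in
theorem fixed_all {v : M} (h5 : ρ g5 v = v) (hx : ρ gx v = v) (g : A6) : ρ g v = v := by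
  have hg : g ∈ Subgroup.closure ({g5, gx} : Set A6) := by rw [closure_top]; trivial
  induction hg using Subgroup.closure_induction with
  | mem x hx' =>
    rcases hx' with rfl | rfl
    · exact h5
    · exact hx
  | one => rw [map_one, Module.End.one_apply]
  | mul x y _ _ h1 h2 => rw [map_mul, Module.End.mul_apply, h2, h1]
  | inv x _ h1 =>
    have h2 := congrArg (ρ x⁻¹) h1
    rw [← Module.End.mul_apply, ← map_mul, inv_mul_cancel, map_one, Module.End.one_apply] at h2
    exact h2.symm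

omit [FiniteDimensional K M] in
theorem fun_all {f : Module.Dual K M} (h5 : ∀ m, f (ρ g5 m) = f m) (hx : ∀ m, f (ρ gx m) = f m) (g : A6) :
    ∀ m, f (ρ g m) = f m := by
  have hg : g ∈ Subgroup.closure ({g5, gx} : Set A6) := by rw [closure_top]; trivial
  induction hg using Subgroup.closure_induction with
  | mem x hx' =>
    rcases hx' with rfl | rfl
    · exact h5
    · exact hx
  | one => intro m; rw [map_one, Module.End.one_apply]
  | mul x y _ _ h1 h2 => intro m; rw [map_mul, Module.End.mul_apply, h1, h2]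
  | inv x _ h1 =>
    intro m
    have h2 := h1 (ρ x⁻¹ m)
    rw [← Module.End.mul_apply, ← map_mul, mul_inv_cancel, map_one, Module.End.one_apply] at h2
    exact h2.symm

theorem actv (hM : ∀ x : M, x + x = 0) {l l' : List A6} {v : M} (h0 : ρ ga v = v) (h1 : ρ gy v = v)
    (h : ky (l.map cd) = ky (l'.map cd)) : act ρ l v = act ρ l' v := by
  refine actv_eq ρ hM (fix_words ρ h0 h1) ?_
  rw [cdW]
  exact h

omit [FiniteDimensional K M] in
theorem xor_eq {a b : ℕ} (h : Nat.xor a b = 0) : a = b := by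
  have h1 : a ^^^ b = 0 := h
  exact Nat.xor_eq_zero_iff.1 h1

/-- `e_C g_A` -/
noncomputable def eA : Module.End K M := act ρ (pr (W wC) (W [wgA]))
noncomputable def eB : Module.End K M := act ρ (pr (W wC) (W [wgB]))

omit [FiniteDimensional K M] in
/-- the identity (T2) -/
theorem T2 (hM : ∀ x : M, x + x = 0) : eA ρ * (aw ρ wPA * aw ρ wRA) + eB ρ * (aw ρ wPB * aw ρ wRB) =
    aw ρ wC + aw ρ wC * ρ gx := by
  have h1 : eA ρ * (aw ρ wPA * aw ρ wRA) = act ρ (pr (pr (W wC) (pr (W [wgA]) (W wPA))) (W wRA)) := by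
    rw [act_pr, act_pr, act_pr, eA, act_pr]
    simp only [mul_assoc]
  have h2 : eB ρ * (aw ρ wPB * aw ρ wRB) = act ρ (pr (pr (W wC) (pr (W [wgB]) (W wPB))) (W wRB)) := by
    rw [act_pr, act_pr, act_pr, eB, act_pr]
    simp only [mul_assoc]
  have h3 : aw ρ wC * ρ gx = act ρ (pr (W wC) (W [wx2])) := by
    rw [act_pr]
    congr 1
    exact (act_single ρ _).symm
  rw [h1, h2, h3, ← act_append, ← act_append]
  refine act_eq ρ hM ?_
  rw [List.map_append, List.map_append, map_pr, map_pr, map_pr, map_pr, map_pr, map_pr, cdW, cdW, cdW, cdW, cdW, cdW,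
    cdW, xs_append, xs_append]
  exact xor_eq chk_T2

/-- `e_C` fixes the vectors fixed by the 5-cycle -/
theorem aC_of (hM : ∀ x : M, x + x = 0) {m : M} (h : ρ g5 m = m) : aw ρ wC m = m := by
  have e : ∀ k : ℕ, ρ (g5 ^ k) m = m := by
    intro k
    induction k with
    | zero => rw [pow_zero, map_one, Module.End.one_apply]
    | succ k ih => rw [pow_succ, map_mul, Module.End.mul_apply, h, ih]
  have e0 : W wC = [g5 ^ 0, g5 ^ 1, g5 ^ 2, g5 ^ 3, g5 ^ 4] := by
    have e1 : ∀ k : ℕ, wd gen (List.replicate k 2) = g5 ^ k := by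
      intro k
      unfold wd
      rw [List.map_replicate, List.prod_replicate]
      rfl
    have e2 : W wC = [wd gen (List.replicate 0 2), wd gen (List.replicate 1 2), wd gen (List.replicate 2 2),
      wd gen (List.replicate 3 2), wd gen (List.replicate 4 2)] := rfl
    rw [e2, e1, e1, e1, e1, e1]
  show act ρ (W wC) m = m
  rw [e0, act_apply]
  show ρ (g5 ^ 0) m + (ρ (g5 ^ 1) m + (ρ (g5 ^ 2) m + (ρ (g5 ^ 3) m + (ρ (g5 ^ 4) m + 0)))) = m
  rw [e, e, e, e, e, add_zero, hM, add_zero, hM, add_zero]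

theorem C_g5 (hM : ∀ x : M, x + x = 0) : aw ρ wC * ρ g5 = aw ρ wC := by
  rw [← wd2, ← aw_one, aw_mul]
  refine act_eq ρ hM ?_
  rw [map_pr, cdW, cdW]
  decide +kernel

theorem mem_SA (hM : ∀ x : M, x + x = 0) (m : M) : aw ρ wPA m ∈ SA ρ := by
  have h1 : ρ (wd gen [0]) * aw ρ wPA = aw ρ wPA := by
    rw [← aw_one, aw_mul]
    refine act_eq ρ hM ?_
    rw [map_pr, cdW, cdW]
    exact chk_aPA
  have h2 : aw ρ wA' * aw ρ wPA = 0 := by
    rw [aw_mul, ← act_nil ρ]
    refine act_eq ρ hM ?_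
    rw [map_pr, cdW, cdW]
    exact chk_kPA
  have h3 : ρ (wd gen [1, 1]) * aw ρ wPA = aw ρ wPA := by
    rw [← aw_one, aw_mul]
    refine act_eq ρ hM ?_
    rw [map_pr, cdW, cdW]
    exact chk_yPA
  refine ⟨⟨(mem_Fx ρ).2 ?_, LinearMap.mem_ker.2 ?_⟩, (mem_Fx ρ).2 ?_⟩
  · rw [← Module.End.mul_apply, h1]
  · rw [← Module.End.mul_apply, h2, LinearMap.zero_apply]
  · rw [← Module.End.mul_apply, h3]

theorem mem_SB (hM : ∀ x : M, x + x = 0) (m : M) : aw ρ wPB m ∈ SB ρ := by
  have h1 : ρ gb * aw ρ wPB = aw ρ wPB := by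
    rw [gb, ← aw_one, aw_mul]
    refine act_eq ρ hM ?_
    rw [map_pr, cdW, cdW]
    exact chk_bPB
  have h2 : aw ρ wA * aw ρ wPB = 0 := by
    rw [aw_mul, ← act_nil ρ]
    refine act_eq ρ hM ?_
    rw [map_pr, cdW, cdW]
    exact chk_kPB
  have h3 : ρ (wd gen [1, 1]) * aw ρ wPB = aw ρ wPB := by
    rw [← aw_one, aw_mul]
    refine act_eq ρ hM ?_
    rw [map_pr, cdW, cdW]
    exact chk_yPB
  refine ⟨⟨(mem_Fx ρ).2 ?_, LinearMap.mem_ker.2 ?_⟩, (mem_Fx ρ).2 ?_⟩
  · rw [← Module.End.mul_apply, h1]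
  · rw [← Module.End.mul_apply, h2, LinearMap.zero_apply]
  · rw [← Module.End.mul_apply, h3]

/-- the map `A × B → M^C` -/
noncomputable def phi : ↥(SA ρ) × ↥(SB ρ) →ₗ[K] M :=
  ((eA ρ).comp (SA ρ).subtype).coprod ((eB ρ).comp (SB ρ).subtype)

theorem phi_apply (x : ↥(SA ρ) × ↥(SB ρ)) : phi ρ x = eA ρ x.1 + eB ρ x.2 := rfl

/-- surjectivity -/
theorem phi_surj (h2 : (2 : K) = 0) (hM : ∀ x : M, x + x = 0)
    (hco : ∀ f : Module.Dual K M, (∀ g m, f (ρ g m) = f m) → f = 0) :
    Fx ρ g5 ≤ LinearMap.range (phi ρ) := by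
  intro m hm
  by_contra hc
  obtain ⟨f, hf, hf'⟩ := Submodule.exists_dual_map_eq_bot_of_notMem hc inferInstance
  have h0 : ∀ x, f (phi ρ x) = 0 := by
    intro x
    have h1 : f (phi ρ x) ∈ (LinearMap.range (phi ρ)).map f := ⟨_, ⟨x, rfl⟩, rfl⟩
    rw [hf'] at h1
    exact (Submodule.mem_bot K).1 h1
  have hz : f.comp (aw ρ wC) = 0 := by
    refine hco _ fun g => fun_all ρ (f := f.comp (aw ρ wC)) ?_ ?_ g
    · intro m
      show f (aw ρ wC (ρ g5 m)) = f (aw ρ wC m)
      rw [← Module.End.mul_apply, C_g5 ρ hM]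
    · intro m
      show f (aw ρ wC (ρ gx m)) = f (aw ρ wC m)
      have h1 := LinearMap.congr_fun (T2 ρ hM) m
      rw [LinearMap.add_apply, LinearMap.add_apply, Module.End.mul_apply, Module.End.mul_apply,
        Module.End.mul_apply (eB ρ), Module.End.mul_apply (aw ρ wPB)] at h1
      have h3 := h0 (⟨_, mem_SA ρ hM (aw ρ wRA m)⟩, ⟨_, mem_SB ρ hM (aw ρ wRB m)⟩)
      rw [phi_apply] at h3
      have h4 := congrArg f h1
      rw [map_add, map_add] at h4
      rw [map_add] at h3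
      rw [h3, Module.End.mul_apply] at h4
      linear_combination (-1 : K) * h4 - (f (aw ρ wC m)) * h2
  apply hf
  have h5 := LinearMap.congr_fun hz m
  rw [LinearMap.comp_apply, aC_of ρ hM ((mem_Fx ρ).1 hm)] at h5
  exact h5

/-- `e₁ w` and `e₂ w` -/
noncomputable def e1w : Module.End K M := act ρ (pr (W w1) (W [ww]))
noncomputable def e2w : Module.End K M := act ρ (pr (W w2) (W [ww]))

theorem SY_fix (hM : ∀ x : M, x + x = 0) {v : M} (hv : v ∈ SY ρ) : ρ ga v = v ∧ ρ gy v = v := by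
  obtain ⟨⟨⟨x, hx⟩, _⟩, h2⟩ := hv
  constructor
  · have h1 : ρ ga * aw ρ wE = aw ρ wE := by
      rw [← wd0, ← aw_one, aw_mul]
      refine act_eq ρ hM ?_
      rw [map_pr, cdW, cdW]
      exact chk_aE
    rw [← hx, ← Module.End.mul_apply, h1]
  · rw [← wd1]
    exact (mem_Fx ρ).1 h2

theorem e1w_mem (hM : ∀ x : M, x + x = 0) {v : M} (hv : v ∈ SY ρ) : e1w ρ v ∈ SA ρ := by
  obtain ⟨h0, h1⟩ := SY_fix ρ hM hv
  refine ⟨⟨(mem_Fx ρ).2 ?_, LinearMap.mem_ker.2 ?_⟩, (mem_Fx ρ).2 ?_⟩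
  · rw [← Module.End.mul_apply, ← aw_one, e1w, ← act_pr]
    refine actv ρ hM h0 h1 ?_
    rw [map_pr, map_pr, cdW, cdW, cdW]
    exact chk_e1
  · rw [← Module.End.mul_apply, e1w, ← act_pr]
    change _ = act ρ [] v
    refine actv ρ hM h0 h1 ?_
    rw [map_pr, map_pr, cdW, cdW, cdW]
    exact chk_e1k
  · rw [← Module.End.mul_apply, ← aw_one, e1w, ← act_pr]
    refine actv ρ hM h0 h1 ?_
    rw [map_pr, map_pr, cdW, cdW, cdW]
    exact chk_e1y

theorem e2w_mem (hM : ∀ x : M, x + x = 0) {v : M} (hv : v ∈ SY ρ) : e2w ρ v ∈ SB ρ := by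
  obtain ⟨h0, h1⟩ := SY_fix ρ hM hv
  refine ⟨⟨(mem_Fx ρ).2 ?_, LinearMap.mem_ker.2 ?_⟩, (mem_Fx ρ).2 ?_⟩
  · rw [gb, ← Module.End.mul_apply, ← aw_one, e2w, ← act_pr]
    refine actv ρ hM h0 h1 ?_
    rw [map_pr, map_pr, cdW, cdW, cdW]
    exact chk_e2
  · rw [← Module.End.mul_apply, e2w, ← act_pr]
    change _ = act ρ [] v
    refine actv ρ hM h0 h1 ?_
    rw [map_pr, map_pr, cdW, cdW, cdW]
    exact chk_e2k
  · rw [← Module.End.mul_apply, ← aw_one, e2w, ← act_pr]
    refine actv ρ hM h0 h1 ?_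
    rw [map_pr, map_pr, cdW, cdW, cdW]
    exact chk_e2y

theorem T_one (hM : ∀ x : M, x + x = 0) {v : M} (hv : v ∈ SY ρ) : eA ρ (e1w ρ v) + eB ρ (e2w ρ v) = 0 := by
  obtain ⟨h0, h1⟩ := SY_fix ρ hM hv
  rw [← Module.End.mul_apply, ← Module.End.mul_apply, e1w, e2w, eA, eB, ← act_pr, ← act_pr, ← LinearMap.add_apply,
    ← act_append]
  change _ = act ρ [] v
  refine actv ρ hM h0 h1 ?_
  rw [List.map_append, map_pr, map_pr, map_pr, map_pr, map_pr, map_pr, cdW, cdW, cdW, cdW, cdW, cdW]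
  have e : ∀ a b : List ℕ, ky (a ++ b) = Nat.xor (ky a) (ky b) := by
    intro a b
    unfold ky
    rw [List.map_append, xs_append]
  rw [e]
  exact chk_T1

/-- injectivity -/
theorem e_inj (hM : ∀ x : M, x + x = 0) (hinv : ρ.invariants = ⊥) {v : M} (hv : v ∈ SY ρ) (h1 : e1w ρ v = 0)
    (h2 : e2w ρ v = 0) : v = 0 := by
  obtain ⟨f0, f1⟩ := SY_fix ρ hM hv
  have h3 : ρ (wd gen ww) v + act ρ (pr (W wE) (W [ww])) v + (e1w ρ v + e2w ρ v +
      (ρ (wd gen [1]) (e1w ρ v) + ρ (wd gen [1]) (e2w ρ v))) = 0 := by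
    have e1 : ρ (wd gen ww) v + act ρ (pr (W wE) (W [ww])) v + (e1w ρ v + e2w ρ v +
      (ρ (wd gen [1]) (e1w ρ v) + ρ (wd gen [1]) (e2w ρ v))) =
      act ρ ((W [ww] ++ pr (W wE) (W [ww])) ++ ((pr (W w1) (W [ww]) ++ pr (W w2) (W [ww])) ++
        (pr (W [[1]]) (pr (W w1) (W [ww])) ++ pr (W [[1]]) (pr (W w2) (W [ww]))))) v := by
      simp only [act_append, act_pr, LinearMap.add_apply, Module.End.mul_apply, e1w, e2w]
      rw [← aw_one ρ ww, ← aw_one ρ [1]]
    rw [e1]
    change _ = act ρ [] v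
    refine actv ρ hM f0 f1 ?_
    simp only [List.map_append, map_pr, cdW]
    have e : ∀ a b : List ℕ, ky (a ++ b) = Nat.xor (ky a) (ky b) := by
      intro a b
      unfold ky
      rw [List.map_append, xs_append]
    simp only [e]
    exact chk_sum
  rw [h1, h2, map_zero, add_zero, add_zero, add_zero] at h3
  have h4 : ρ (wd gen ww) v = act ρ (pr (W wE) (W [ww])) v := add_right_cancel (h3.trans (hM _).symm)
  have h5 : ρ ga (ρ (wd gen ww) v) = ρ (wd gen ww) v := by
    rw [h4, act_pr, ← Module.End.mul_apply, ← mul_assoc]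
    have h6 : ρ ga * act ρ (W wE) = act ρ (W wE) := by
      rw [← wd0, ← aw_one, aw_mul]
      refine act_eq ρ hM ?_
      rw [map_pr, cdW, cdW]
      exact chk_aE
    rw [h6]
  -- `w a w` fixes `v`
  set u : A6 := wd gen ([1, 2, 0, 0, 1, 0] ++ [0] ++ [1, 2, 0, 0, 1, 0]) with hu
  have h6 : ρ u v = v := by
    have e1 : u = wd gen ww * (ga * wd gen ww) := by
      apply cd_inj
      rw [hu, cd_mul, cd_mul, cd_wd cd_gen, cd_wd cd_gen, cd_ga]
      decide +kernel
    have e2 : wd gen ww * wd gen ww = 1 := by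
      apply cd_inj
      rw [cd_mul, cd_wd cd_gen, cd_one]
      decide +kernel
    rw [e1, map_mul, map_mul, Module.End.mul_apply, Module.End.mul_apply, h5, ← Module.End.mul_apply, ← map_mul, e2,
      map_one, Module.End.one_apply]
  -- hence `v` is invariant
  have key : ∀ l : List ℕ, ρ (wd (fun k => if k = 0 then ga else if k = 1 then gy else u) l) v = v := by
    intro l
    induction l with
    | nil =>
      show ρ 1 v = v
      rw [map_one, Module.End.one_apply]
    | cons k l ih =>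
      have e : wd (fun k => if k = 0 then ga else if k = 1 then gy else u) (k :: l) =
        (if k = 0 then ga else if k = 1 then gy else u) *
          wd (fun k => if k = 0 then ga else if k = 1 then gy else u) l := List.prod_cons
      rw [e, map_mul, Module.End.mul_apply, ih]
      split_ifs
      · exact f0
      · exact f1
      · exact h6
  have hc : ∀ k, cd ((fun k => if k = 0 then ga else if k = 1 then gy else u) k) =
      (fun k => if k = 0 then wc gcd [0] else if k = 1 then wc gcd [1] else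
        wc gcd ([1, 2, 0, 0, 1, 0] ++ [0] ++ [1, 2, 0, 0, 1, 0])) k := by
    intro k
    by_cases h0 : k = 0
    · simp only [if_pos h0]
      rw [← wd0, cd_wd cd_gen]
    · by_cases h1 : k = 1
      · simp only [if_neg h0, if_pos h1]
        rw [← wd1, cd_wd cd_gen]
      · simp only [if_neg h0, if_neg h1]
        rw [hu, cd_wd cd_gen]
  have h7 : ρ g5 v = v := by
    have e : g5 = wd (fun k => if k = 0 then ga else if k = 1 then gy else u) [0, 2, 2, 1, 0, 1] := by
      apply cd_inj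
      rw [cd_wd hc, chk_w.1, ← wd2, cd_wd cd_gen]
    rw [e]
    exact key _
  have h8 : ρ gx v = v := by
    have e : gx = wd (fun k => if k = 0 then ga else if k = 1 then gy else u) [0, 1, 2, 2, 1, 0] := by
      apply cd_inj
      rw [cd_wd hc, chk_w.2, cd_gx]
    rw [e]
    exact key _
  have h9 : v ∈ ρ.invariants := fun g => fixed_all ρ h7 h8 g
  rw [hinv] at h9
  exact (Submodule.mem_bot K).1 h9

/-- the count -/
theorem count (h2 : (2 : K) = 0) (hM : ∀ x : M, x + x = 0) (hinv : ρ.invariants = ⊥)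
    (hco : ∀ f : Module.Dual K M, (∀ g m, f (ρ g m) = f m) → f = 0) :
    ev (ρ g5) 1 + finrank K ↥(SY ρ) ≤ finrank K ↥(SA ρ) + finrank K ↥(SB ρ) := by
  set θ : ↥(SY ρ) →ₗ[K] ↥(SA ρ) × ↥(SB ρ) :=
    LinearMap.prod (((e1w ρ).domRestrict (SY ρ)).codRestrict (SA ρ) fun v => e1w_mem ρ hM v.2)
      (((e2w ρ).domRestrict (SY ρ)).codRestrict (SB ρ) fun v => e2w_mem ρ hM v.2) with hθ
  have e1 : ∀ v, ((θ v).1 : M) = e1w ρ v := fun v => rfl
  have e2 : ∀ v, ((θ v).2 : M) = e2w ρ v := fun v => rfl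
  have h1 : Function.Injective θ := by
    rw [← LinearMap.ker_eq_bot, eq_bot_iff]
    intro v hv
    rw [LinearMap.mem_ker] at hv
    rw [Submodule.mem_bot]
    apply Subtype.ext
    refine e_inj ρ hM hinv v.2 ?_ ?_
    · rw [← e1, hv]; rfl
    · rw [← e2, hv]; rfl
  have h3 : LinearMap.range θ ≤ LinearMap.ker (phi ρ) := by
    rintro _ ⟨v, rfl⟩
    rw [LinearMap.mem_ker, phi_apply, e1, e2]
    exact T_one ρ hM v.2
  have h4 := Submodule.finrank_mono h3
  rw [LinearMap.finrank_range_of_inj h1] at h4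
  have h5 := LinearMap.finrank_range_add_finrank_ker (phi ρ)
  rw [Module.finrank_prod] at h5
  have h6 := Submodule.finrank_mono (phi_surj ρ h2 hM hco)
  have h7 : finrank K ↥(Fx ρ g5) = ev (ρ g5) 1 := rfl
  omega

/-- the inequality -/
theorem ineq_aux (h2 : (2 : K) = 0) (hinv : ρ.invariants = ⊥)
    (hco : ∀ f : Module.Dual K M, (∀ g m, f (ρ g m) = f m) → f = 0) :
    4 * (ev (ρ ga) 1 + ev (ρ gb) 1) + 12 * ev (ρ g5) 1 ≤ 5 * finrank K M := by
  have hM := two_zero (M := M) h2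
  have h1 := count ρ h2 hM hinv hco
  have h3 := dA ρ hM
  have h4 := dB ρ hM
  have h5 := dY ρ hM
  have h6 := low_aux ρ hM
  omega

end

end Cfsg.Agent.R2.T1.N6D.Ck
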